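import Cfsg.Agent.Lib.Trans3.Classes

/-! Three-transposition classes acting on a module of exponent two so that the lifts to the
semidirect product stay three-transpositions: images of the commutator maps. -/

set_option autoImplicit false

namespace CfsgLib.Trans3.UniqueClass

variable {Q : Type*} [Group Q] {V : Type*} [AddCommGroup V] [DistribMulAction Q V]

/-- The map `v ↦ q • v + v`. -/
def cm (q : Q) : V →+ V where
  toFun v := q • v + v
  map_zero' := by simp
  map_add' v w := by rw [smul_add]; abel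

/-- The image `[V, q]`. -/
def R (V : Type*) [AddCommGroup V] [DistribMulAction Q V] (q : Q) : AddSubgroup V :=
  (cm (V := V) q).range

theorem mem_R {q : Q} {x : V} : x ∈ R V q ↔ ∃ v : V, q • v + v = x := Iff.rfl

theorem cm_mem (q : Q) (v : V) : q • v + v ∈ R V q := ⟨v, rfl⟩

/-- `(V, D)`: a class of three-transpositions with quadratic lifts. -/
structure Mod (V : Type*) [AddCommGroup V] [DistribMulAction Q V] (D : Set Q) : Prop where
  cls : Cfsg.IsThreeTranspositionClass D
  char2 : ∀ v : V, v + v = 0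
  comm : ∀ a ∈ D, ∀ b ∈ D, Commute a b → ∀ x ∈ R V a, b • x = x
  fpf : ∀ a ∈ D, ∀ b ∈ D, ¬ Commute a b → ∀ x ∈ R V a, (a * b) • x = x → x = 0
  twins : ∀ a ∈ D, ∀ b ∈ D, (∀ e ∈ D, Commute b e ↔ Commute a e) → a = b
  faithful : ∀ q : Q, (∀ v : V, q • v = v) → q = 1

variable {D : Set Q}

namespace Mod

theorem set (M : Mod V D) : Cfsg.IsThreeTranspositionSet D := M.cls.1

theorem conj (M : Mod V D) {a : Q} (ha : a ∈ D) (q : Q) : q * a * q⁻¹ ∈ D := by
  obtain ⟨d, -, hd⟩ := M.cls.2.1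
  rw [hd] at ha ⊢
  exact IsConj.trans ha (isConj_iff.2 ⟨q, rfl⟩)

theorem conj' (M : Mod V D) {a b : Q} (ha : a ∈ D) (hb : b ∈ D) : b * a * b ∈ D := by
  have := M.conj ha b; rwa [inv_eq M.set hb] at this

theorem exists_conj (M : Mod V D) {a b : Q} (ha : a ∈ D) (hb : b ∈ D) :
    ∃ q : Q, q * a * q⁻¹ = b := by
  obtain ⟨d, -, hd⟩ := M.cls.2.1
  rw [hd] at ha hb
  exact isConj_iff.1 (IsConj.trans (IsConj.symm ha) hb)

theorem dbl (M : Mod V D) {x y : V} (h : x + y = 0) : x = y :=
  (eq_neg_of_add_eq_zero_left h).trans (eq_neg_of_add_eq_zero_left (M.char2 y)).symm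

theorem add_eq (M : Mod V D) {x y z : V} (h : x + y = z) : x = z + y := by
  rw [← h, add_assoc, M.char2, add_zero]

theorem fixed_self (M : Mod V D) {a : Q} (ha : a ∈ D) {x : V} (hx : x ∈ R V a) : a • x = x :=
  M.comm a ha a ha (Commute.refl a) x hx

theorem R_inv (q : Q) : R V q⁻¹ = R V q := by
  ext x
  constructor
  · rintro ⟨v, rfl⟩
    exact ⟨q⁻¹ • v, by change q • q⁻¹ • v + q⁻¹ • v = q⁻¹ • v + v; rw [smul_inv_smul, add_comm]⟩
  · rintro ⟨v, rfl⟩
    exact ⟨q • v, by change q⁻¹ • q • v + q • v = q • v + v; rw [inv_smul_smul, add_comm]⟩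

theorem smul_mem_conj (q g : Q) {x : V} (hx : x ∈ R V q) : g • x ∈ R V (g * q * g⁻¹) := by
  obtain ⟨v, rfl⟩ := hx
  exact ⟨g • v, by
    change (g * q * g⁻¹) • g • v + g • v = g • (q • v + v)
    rw [smul_add, smul_smul, smul_smul, inv_mul_cancel_right]⟩

/-- Conjugation transports the image. -/
theorem smul_mem_of_conj {q q' g : Q} (h : g * q * g⁻¹ = q') {x : V} (hx : x ∈ R V q) :
    g • x ∈ R V q' := h ▸ smul_mem_conj q g hx

theorem mem_conj_iff (q g : Q) {x : V} : x ∈ R V (g * q * g⁻¹) ↔ g⁻¹ • x ∈ R V q := by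
  constructor
  · intro hx
    exact smul_mem_of_conj (by group) hx
  · intro hx
    simpa using smul_mem_conj q g hx

theorem card_conj (q g : Q) : Nat.card (R V (g * q * g⁻¹)) = Nat.card (R V q) :=
  Nat.card_congr
    { toFun := fun x => ⟨g⁻¹ • (x : V), (mem_conj_iff q g).1 x.2⟩
      invFun := fun x => ⟨g • (x : V), smul_mem_conj q g x.2⟩
      left_inv := fun x => Subtype.ext (smul_inv_smul g (x : V))
      right_inv := fun x => Subtype.ext (inv_smul_smul g (x : V)) }

theorem card_eq (M : Mod V D) {a b : Q} (ha : a ∈ D) (hb : b ∈ D) :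
    Nat.card (R V b) = Nat.card (R V a) := by
  obtain ⟨q, rfl⟩ := M.exists_conj ha hb
  exact card_conj a q

theorem two_le_card (M : Mod V D) [Finite V] {a : Q} (ha : a ∈ D) : 2 ≤ Nat.card (R V a) := by
  rcases lt_or_ge 1 (Nat.card (R V a)) with h | h
  · exact h
  · exfalso
    haveI := (Finite.card_le_one_iff_subsingleton).1 h
    refine invol_ne_one (M.set.1 a ha) (M.faithful a fun v => M.dbl ?_)
    exact congrArg Subtype.val (Subsingleton.elim (⟨_, cm_mem a v⟩ : R V a) 0)

theorem disjoint (M : Mod V D) {a b : Q} (ha : a ∈ D) (hb : b ∈ D) (hn : ¬ Commute a b) {x : V}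
    (hxa : x ∈ R V a) (hxb : x ∈ R V b) : x = 0 :=
  M.fpf a ha b hb hn x hxa (by rw [mul_smul, M.fixed_self hb hxb, M.fixed_self ha hxa])

theorem eq_zero_of_fixed (M : Mod V D) {a b : Q} (ha : a ∈ D) (hb : b ∈ D) (hn : ¬ Commute a b)
    {x : V} (hxa : x ∈ R V a) (hx : b • x = x) : x = 0 :=
  M.fpf a ha b hb hn x hxa (by rw [mul_smul, hx, M.fixed_self ha hxa])

theorem inter_zero (M : Mod V D) {a b : Q} (ha : a ∈ D) (hb : b ∈ D) (hne : a ≠ b) {x : V}
    (hxa : x ∈ R V a) (hxb : x ∈ R V b) : x = 0 := by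
  by_cases hn : Commute a b
  · by_contra hx
    refine hne (M.twins a ha b hb fun e he => ⟨fun h => ?_, fun h => ?_⟩)
    · by_contra hna
      exact hx (M.eq_zero_of_fixed ha he hna hxa (M.comm b hb e he h x hxb))
    · by_contra hnb
      exact hx (M.eq_zero_of_fixed hb he hnb hxb (M.comm a ha e he h x hxa))
  · exact M.disjoint ha hb hn hxa hxb

/-- For non-commuting `a`, `b` the map `x ↦ b • x + x` is a bijection `[V,a] → [V,b]`. -/
theorem exists_preimage (M : Mod V D) [Finite V] {a b : Q} (ha : a ∈ D) (hb : b ∈ D)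
    (hn : ¬ Commute a b) {y : V} (hy : y ∈ R V b) : ∃ x ∈ R V a, b • x + x = y := by
  let f : R V a → R V b := fun x => ⟨b • (x : V) + x, cm_mem b (x : V)⟩
  have hf : Function.Injective f := fun x z h => Subtype.ext (M.dbl (by
    have h' : b • (x : V) + x = b • (z : V) + z := congrArg Subtype.val h
    refine M.eq_zero_of_fixed ha hb hn (add_mem x.2 z.2) (M.dbl ?_)
    rw [smul_add, add_add_add_comm, h', M.char2]))
  obtain ⟨x, hx⟩ := (((Nat.bijective_iff_injective_and_card f).2
    ⟨hf, (M.card_eq ha hb).symm⟩).2 : Function.Surjective f) ⟨y, hy⟩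
  exact ⟨x, x.2, congrArg Subtype.val hx⟩

theorem left_le_R_mul (M : Mod V D) [Finite V] {a b : Q} (ha : a ∈ D) (hb : b ∈ D)
    (hn : ¬ Commute a b) : R V a ≤ R V (a * b) := fun y hy => by
  obtain ⟨x, hx, rfl⟩ := M.exists_preimage hb ha (fun h => hn h.symm) hy
  exact ⟨x, by change (a * b) • x + x = a • x + x; rw [mul_smul, M.fixed_self hb hx]⟩

theorem R_mul (M : Mod V D) [Finite V] {a b : Q} (ha : a ∈ D) (hb : b ∈ D) (hn : ¬ Commute a b) :
    R V (a * b) = R V a ⊔ R V b := by
  refine le_antisymm ?_ (sup_le (M.left_le_R_mul ha hb hn) ?_)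
  · rintro _ ⟨v, rfl⟩
    refine AddSubgroup.mem_sup.2 ⟨_, cm_mem a (b • v), _, cm_mem b v, ?_⟩
    change a • b • v + b • v + (b • v + v) = (a * b) • v + v
    rw [mul_smul, add_assoc, ← add_assoc (b • v) (b • v), M.char2, zero_add]
  · have := M.left_le_R_mul hb ha fun h => hn h.symm
    rwa [← R_inv (b * a), mul_inv_rev, inv_eq M.set ha, inv_eq M.set hb] at this

theorem card_R_mul (M : Mod V D) [Finite V] {a b : Q} (ha : a ∈ D) (hb : b ∈ D)
    (hn : ¬ Commute a b) : Nat.card (R V (a * b)) = Nat.card (R V a) * Nat.card (R V a) := by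
  let f : R V a × R V b → (R V a ⊔ R V b : AddSubgroup V) := fun x =>
    ⟨x.1 + x.2, AddSubgroup.mem_sup.2 ⟨_, x.1.2, _, x.2.2, rfl⟩⟩
  have hf : Function.Bijective f := by
    constructor
    · intro x y h
      have h' : (x.1 : V) + x.2 = y.1 + y.2 := congrArg Subtype.val h
      have h1 : (x.1 : V) - y.1 = y.2 - x.2 := by
        rw [sub_eq_sub_iff_add_eq_add, h', add_comm]
      have h0 := M.disjoint ha hb hn (sub_mem x.1.2 y.1.2) (h1 ▸ sub_mem y.2.2 x.2.2)
      exact Prod.ext (Subtype.ext (sub_eq_zero.1 h0))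
        (Subtype.ext (sub_eq_zero.1 (h1 ▸ h0)).symm)
    · rintro ⟨z, hz⟩
      obtain ⟨u, hu, w, hw, rfl⟩ := AddSubgroup.mem_sup.1 hz
      exact ⟨(⟨u, hu⟩, ⟨w, hw⟩), rfl⟩
  rw [M.R_mul ha hb hn, ← Nat.card_congr (Equiv.ofBijective f hf), Nat.card_prod,
    M.card_eq ha hb]

theorem cube (M : Mod V D) {a b : Q} (ha : a ∈ D) (hb : b ∈ D) (hn : ¬ Commute a b) :
    a * b * (a * b) * (a * b) = 1 := by
  simpa [pow_succ] using pow_three M.set ha hb hn

theorem norm_zero (M : Mod V D) {t : Q} (ht : t * t * t = 1) {z : V} (hz : z ∈ R V t) :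
    z + t • z + t • t • z = 0 := by
  obtain ⟨v, rfl⟩ := hz
  change t • v + v + t • (t • v + v) + t • t • (t • v + v) = 0
  simp only [smul_add]
  rw [show t • t • t • v = v by rw [smul_smul, smul_smul, ht, one_smul]]
  calc t • v + v + (t • t • v + t • v) + (v + t • t • v)
      = (t • v + t • v) + (v + v) + (t • t • v + t • t • v) := by abel
    _ = 0 := by simp [M.char2]

theorem mem_of_norm_zero (M : Mod V D) {t : Q} {y : V} (h : y + t • y + t • t • y = 0) :
    y ∈ R V t := ⟨t • y, by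
  change t • t • y + t • y = y
  rw [add_assoc] at h
  rw [add_comm, ← M.dbl h]⟩

theorem fixed_pair (M : Mod V D) {a b : Q} (ha : a ∈ D) (hb : b ∈ D) (hn : ¬ Commute a b) {z : V}
    (hz : (a * b) • z = z) : a • z = z ∧ b • z = z := by
  have h1 : b • z = a • z := by
    calc b • z = a • a • b • z := by rw [smul_smul a a, sq_one M.set ha, one_smul]
      _ = a • z := by rw [← mul_smul a b, hz]
  have h0 := M.disjoint ha hb hn (cm_mem a z) (h1 ▸ cm_mem b z)
  exact ⟨M.dbl h0, h1.trans (M.dbl h0)⟩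

theorem mem_right_of_fixed (M : Mod V D) [Finite V] {a b : Q} (ha : a ∈ D) (hb : b ∈ D)
    (hn : ¬ Commute a b) {z : V} (hz : z ∈ R V (a * b)) (hzb : b • z = z) : z ∈ R V b := by
  rw [M.R_mul ha hb hn] at hz
  obtain ⟨u, hu, w, hw, rfl⟩ := AddSubgroup.mem_sup.1 hz
  rw [smul_add, M.fixed_self hb hw, add_left_inj] at hzb
  rwa [M.eq_zero_of_fixed ha hb hn hu hzb, zero_add]

/-- The elementary abelian nine-group identity. -/
theorem four (M : Mod V D) {a b p q : Q} {z : V}
    (hp : p • z = a • a • b • z) (hp2 : p • p • z = a • b • b • z)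
    (hq : q • z = a • b • z) (hq2 : q • q • z = a • a • b • b • z)
    (ha : z + a • z + a • a • z = 0) (hb : z + b • z + b • b • z = 0)
    (hpz : z + p • z + p • p • z = 0) : q • z = z := by
  have hy : (z + b • z + b • b • z) + a • (z + b • z + b • b • z) +
      a • a • (z + b • z + b • b • z) = 0 := by simp [hb]
  simp only [smul_add] at hy
  rw [← hq2, ← hp, ← hp2, ← hq] at hy
  have h0 : q • z + q • q • z = 0 := by
    have e : (z + b • z + b • b • z + (a • z + q • z + p • p • z) +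
        (a • a • z + p • z + q • q • z)) + (z + z) =
        (z + a • z + a • a • z) + (z + b • z + b • b • z) + (z + p • z + p • p • z) +
          (q • z + q • q • z) := by abel
    rw [hy, ha, hb, hpz, M.char2] at e
    simpa using e.symm
  exact (MulAction.injective q (M.dbl h0)).symm

end Mod

end CfsgLib.Trans3.UniqueClass
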