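import Cfsg.Agent.Lib.Trans3.UniqueClass.Triangle

/-! Two classes of three-transpositions with quadratic lifts on the same module generate the same
class: step one, a member of one class never moves a member of the other to a commuting one. -/

set_option autoImplicit false

namespace CfsgLib.Trans3.UniqueClass

variable {Q : Type*} [Group Q] {V : Type*} [AddCommGroup V] [DistribMulAction Q V] {D E : Set Q}

namespace Mod

/-- Conjugation by an involution of the other class, applied to `Commute`. -/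
theorem commute_swap (N : Mod V E) {e a b : Q} (he : e ∈ E) :
    Commute (e * a * e) b ↔ Commute a (e * b * e) := by
  have := commute_conj_left (G := Q) e a b
  rwa [inv_eq N.set he] at this

theorem commute_swap2 (N : Mod V E) {e a b : Q} (he : e ∈ E) :
    Commute (e * a * e) (e * b * e) ↔ Commute a b := by
  have := commute_conj_iff (G := Q) e a b
  rwa [inv_eq N.set he] at this

/-- If `e ∈ E` moves `d ∈ D` to a commuting member then `|[V,e]| = |[V,d]|²`. -/
theorem card_of_commute_moved (M : Mod V D) (N : Mod V E) [Finite V] (hconj : ∀ a ∈ D, ∀ e ∈ E,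
    e * a * e ∈ D) {d e : Q} (hd : d ∈ D) (he : e ∈ E) (hne : e * d * e ≠ d)
    (hc : Commute d (e * d * e)) :
    Nat.card (R V e) = Nat.card (R V d) * Nat.card (R V d) := by
  have ie := sq_one N.set he
  have ce : ∀ z, e * (e * z) = z := invol_cancel (N.set.1 e he)
  have ee : ∀ z : Q, e * (e * z * e) * e = z := fun z => by simp only [mul_assoc, ce, ie, mul_one]
  have hd' : e * d * e ∈ D := hconj d hd e he
  -- a member `b` joined to `d` but not to its image
  obtain ⟨b, hb, hnb, hcb⟩ : ∃ b ∈ D, ¬ Commute d b ∧ Commute (e * d * e) b := by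
    by_contra hcon
    refine hne (M.twins _ hd' _ hd fun x hx => ⟨fun h => ?_, fun h => ?_⟩)
    · by_contra h'
      refine hcon ⟨e * x * e, hconj x hx e he, ?_, ?_⟩
      · rwa [← N.commute_swap he]
      · rwa [N.commute_swap2 he]
    · by_contra h'
      exact hcon ⟨x, hx, h', h⟩
  set d' := e * d * e with hd'_def
  set b' := e * b * e with hb'_def
  replace hd' : d' ∈ D := hd'
  have hb' : b' ∈ D := hconj b hb e he
  have hnb' : ¬ Commute d' b' := by rwa [hd'_def, N.commute_swap2 he]
  have hcb' : Commute d b' := (N.commute_swap he).1 hcb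
  have hbb : b ≠ b' := fun h => hnb' (h ▸ hcb)
  have vd := inv_eq M.set hd
  have vd' := inv_eq M.set hd'
  have vb := inv_eq M.set hb
  have vb' := inv_eq M.set hb'
  have cd : ∀ z, d * (d * z) = z := invol_cancel (M.set.1 d hd)
  have cd' : ∀ z, d' * (d' * z) = z := invol_cancel (M.set.1 d' hd')
  have cb : ∀ z, b * (b * z) = z := invol_cancel (M.set.1 b hb)
  have cb' : ∀ z, b' * (b' * z) = z := invol_cancel (M.set.1 b' hb')
  have id' := sq_one M.set hd'
  -- `b` and its image commute, else a path of four transpositions gives a five-cycle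
  have hbc : Commute b b' := by
    by_contra hbn
    obtain ⟨c, hc_def⟩ : ∃ c, d' * b' * b * d = c := ⟨_, rfl⟩
    have h32 : c * b' * c⁻¹ = b := by
      have hr : b' * b * b' = b * b' * b := braid M.set hb' hb fun h => hbn h.symm
      rw [← hc_def]
      calc d' * b' * b * d * b' * (d' * b' * b * d)⁻¹
          = d' * b' * b * (d * b' * d) * b * b' * d' := by
            simp only [mul_inv_rev, vd, vd', vb, vb', mul_assoc]
        _ = d' * (b' * (b * b' * b) * b') * d' := by
            rw [hcb'.eq, mul_assoc b' d d, sq_one M.set hd, mul_one]; simp only [mul_assoc]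
        _ = d' * b * d' := by rw [← hr]; simp only [mul_assoc, cb', sq_one M.set hb', mul_one]
        _ = b := by rw [hcb.eq, mul_assoc, id', mul_one]
    have h21 : c * b * c⁻¹ = d := by
      have hr : b * d * b = d * b * d := braid M.set hb hd fun h => hnb h.symm
      rw [← hc_def]
      calc d' * b' * b * d * b * (d' * b' * b * d)⁻¹
          = d' * b' * (b * (d * b * d) * b) * b' * d' := by
            simp only [mul_inv_rev, vd, vd', vb, vb', mul_assoc]
        _ = d' * (b' * d * b') * d' := by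
            rw [← hr]; simp only [mul_assoc, cb, sq_one M.set hb, mul_one]
        _ = d' * d * d' := by rw [← hcb'.eq, mul_assoc d, sq_one M.set hb', mul_one]
        _ = d := by rw [← hc.eq, mul_assoc, id', mul_one]
    have h43 : c * d' * c⁻¹ = b' := by
      have hr : b' * d' * b' = d' * b' * d' := braid M.set hb' hd' fun h => hnb' h.symm
      rw [← hc_def]
      calc d' * b' * b * d * d' * (d' * b' * b * d)⁻¹
          = d' * b' * (b * (d * d' * d) * b) * b' * d' := by
            simp only [mul_inv_rev, vd, vd', vb, vb', mul_assoc]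
        _ = d' * (b' * d' * b') * d' := by
            rw [hc.eq, mul_assoc d' d d, sq_one M.set hd, mul_one, ← hcb.eq, mul_assoc d' b b,
              sq_one M.set hb, mul_one]
            simp only [mul_assoc]
        _ = b' := by rw [hr]; simp only [mul_assoc, cd', id', mul_one]
    have hcx : c = e * ((d * b) * e * (d * b)⁻¹) := by
      rw [← hc_def, hd'_def, hb'_def, mul_inv_rev, vd, vb]
      simp only [mul_assoc, ce]
    rcases N.set.2 e he _ (N.conj he (d * b)) with h2 | h3
    · rw [← hcx, pow_two] at h2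
      have e1 : c * (c * b' * c⁻¹) * c⁻¹ = d := by rw [h32, h21]
      rw [show c * (c * b' * c⁻¹) * c⁻¹ = c * c * b' * (c * c)⁻¹ by group, h2] at e1
      simp only [one_mul, inv_one, mul_one] at e1
      exact hnb' (e1 ▸ hc.symm)
    · rw [← hcx] at h3
      simp only [pow_succ, pow_zero, one_mul] at h3
      have e1 : c * (c * (c * d' * c⁻¹) * c⁻¹) * c⁻¹ = d := by rw [h43, h32, h21]
      rw [show c * (c * (c * d' * c⁻¹) * c⁻¹) * c⁻¹ = c * c * c * d' * (c * c * c)⁻¹ by group, h3] at e1
      simp only [one_mul, inv_one, mul_one] at e1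
      exact hne e1
  -- the two rotations commute, with independent images
  obtain ⟨ρ, hρ_def⟩ : ∃ ρ, ρ = d * b := ⟨_, rfl⟩
  obtain ⟨σ, hσ_def⟩ : ∃ σ, σ = d' * b' := ⟨_, rfl⟩
  have hfix : ∀ z ∈ R V σ, ρ • z = z ∧ ρ⁻¹ • z = z := by
    intro z hz
    rw [hσ_def, M.R_mul hd' hb' hnb'] at hz
    obtain ⟨u, hu, w, hw, rfl⟩ := AddSubgroup.mem_sup.1 hz
    have h1 : ρ • (u + w) = u + w := by
      rw [hρ_def, mul_smul, smul_add b, M.comm d' hd' b hb hcb u hu,
        M.comm b' hb' b hb hbc.symm w hw, smul_add d, M.comm d' hd' d hd hc.symm u hu,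
        M.comm b' hb' d hd hcb'.symm w hw]
    exact ⟨h1, by rw [inv_smul_eq_iff, h1]⟩
  have hfix' : ∀ z ∈ R V ρ, σ • z = z := by
    intro z hz
    rw [hρ_def, M.R_mul hd hb hnb] at hz
    obtain ⟨u, hu, w, hw, rfl⟩ := AddSubgroup.mem_sup.1 hz
    rw [hσ_def, mul_smul, smul_add b', M.comm d hd b' hb' hcb' u hu,
      M.comm b hb b' hb' hbc w hw, smul_add d', M.comm d hd d' hd' hc u hu,
      M.comm b hb d' hd' hcb.symm w hw]
  have hρ3 : ρ * ρ * ρ = 1 := hρ_def ▸ M.cube hd hb hnb
  have hσ3 : σ * σ * σ = 1 := hσ_def ▸ M.cube hd' hb' hnb'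
  have hrs : Commute ρ σ := by
    rw [hρ_def, hσ_def]; exact (hc.mul_right hcb').mul_left (hcb.symm.mul_right hbc)
  have hfpf : ∀ {t : Q} {z : V}, t * t * t = 1 → z ∈ R V t → t • z = z → z = 0 := by
    intro t z ht hz htz
    have := M.norm_zero ht hz
    rwa [htz, htz, M.char2, zero_add] at this
  -- their quotient is the product of two members of `E`
  obtain ⟨τ, hτ⟩ : ∃ τ, ρ⁻¹ * σ = τ := ⟨_, rfl⟩
  have he1 : ρ⁻¹ * e * (ρ⁻¹)⁻¹ ∈ E := N.conj he _
  set e1 := ρ⁻¹ * e * (ρ⁻¹)⁻¹ with he1_def
  have hτe : τ = e1 * e := by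
    rw [← hτ, he1_def, hρ_def, hσ_def, hd'_def, hb'_def, inv_inv]
    simp only [mul_assoc, ce]
  have hτ3 : τ * τ * τ = 1 := by
    have h := (hrs.inv_left).mul_pow 3
    simp only [pow_succ, pow_zero, one_mul] at h
    rw [← hτ, h, hσ3, mul_one, ← mul_inv_rev, ← mul_inv_rev, ← mul_assoc, hρ3, inv_one]
  have hle1 : R V ρ ≤ R V τ := fun y hy => by
    let f : R V ρ → R V ρ := fun z => ⟨ρ⁻¹ • (z : V) + z, add_mem (smul_mem_of_conj
      (by group) z.2) z.2⟩
    have hf : Function.Injective f := fun p q h => Subtype.ext (M.dbl (by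
      have h' : ρ⁻¹ • (p : V) + p = ρ⁻¹ • (q : V) + q := congrArg Subtype.val h
      refine hfpf hρ3 (add_mem p.2 q.2) ?_
      refine (inv_smul_eq_iff.1 (M.dbl ?_)).symm
      rw [smul_add, add_add_add_comm, h', M.char2]))
    obtain ⟨p, hp⟩ := Finite.surjective_of_injective hf ⟨y, hy⟩
    refine ⟨p, ?_⟩
    change τ • (p : V) + p = y
    rw [← hτ, mul_smul, hfix' p p.2]
    exact congrArg Subtype.val hp
  have hle2 : R V σ ≤ R V τ := fun y hy => by
    let f : R V σ → R V σ := fun z => ⟨σ • (z : V) + z, add_mem (smul_mem_of_conj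
      (by group) z.2) z.2⟩
    have hf : Function.Injective f := fun p q h => Subtype.ext (M.dbl (by
      have h' : σ • (p : V) + p = σ • (q : V) + q := congrArg Subtype.val h
      refine hfpf hσ3 (add_mem p.2 q.2) (M.dbl ?_)
      rw [smul_add, add_add_add_comm, h', M.char2]))
    obtain ⟨p, hp⟩ := Finite.surjective_of_injective hf ⟨y, hy⟩
    refine ⟨p, ?_⟩
    change τ • (p : V) + p = y
    rw [← hτ, mul_smul, (hfix _ (smul_mem_of_conj (g := σ) (by group) p.2)).2]
    exact congrArg Subtype.val hp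
  have hge : R V τ ≤ R V ρ ⊔ R V σ := by
    rintro _ ⟨z, rfl⟩
    refine AddSubgroup.mem_sup.2 ⟨_, R_inv (V := V) ρ ▸ cm_mem ρ⁻¹ (σ • z), _, cm_mem σ z, ?_⟩
    change ρ⁻¹ • σ • z + σ • z + (σ • z + z) = τ • z + z
    rw [← hτ, mul_smul, add_assoc, ← add_assoc (σ • z) (σ • z), M.char2, zero_add]
  have hR : R V τ = R V ρ ⊔ R V σ := le_antisymm hge (sup_le hle1 hle2)
  -- count
  have hcard : Nat.card (R V τ) = Nat.card (R V ρ) * Nat.card (R V σ) := by
    let f : R V ρ × R V σ → (R V ρ ⊔ R V σ : AddSubgroup V) := fun x =>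
      ⟨x.1 + x.2, AddSubgroup.mem_sup.2 ⟨_, x.1.2, _, x.2.2, rfl⟩⟩
    have hf : Function.Bijective f := by
      constructor
      · intro p q h
        have h' : (p.1 : V) + p.2 = q.1 + q.2 := congrArg Subtype.val h
        have h1 : (p.1 : V) - q.1 = q.2 - p.2 := by
          rw [sub_eq_sub_iff_add_eq_add, h', add_comm]
        have hs : (p.1 : V) - q.1 ∈ R V σ := h1 ▸ sub_mem q.2.2 p.2.2
        have h0 := hfpf hρ3 (sub_mem p.1.2 q.1.2) (hfix _ hs).1
        exact Prod.ext (Subtype.ext (sub_eq_zero.1 h0))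
          (Subtype.ext (sub_eq_zero.1 (h1 ▸ h0)).symm)
      · rintro ⟨z, hz⟩
        obtain ⟨u, hu, w, hw, rfl⟩ := AddSubgroup.mem_sup.1 hz
        exact ⟨(⟨u, hu⟩, ⟨w, hw⟩), rfl⟩
    rw [hR, ← Nat.card_congr (Equiv.ofBijective f hf), Nat.card_prod]
  have hδ := M.two_le_card hd
  rw [hρ_def, hσ_def, M.card_R_mul hd hb hnb, M.card_R_mul hd' hb' hnb', M.card_eq hd hd'] at hcard
  by_cases hn : Commute e1 e
  · exfalso
    have h2 : τ * τ = 1 := by rw [hτe, ← pow_two]; exact (commute_iff_pow_two N.set he1 he).1 hn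
    have hτ1 : τ = 1 := by rw [h2, one_mul] at hτ3; exact hτ3
    have h1 : Nat.card (R V τ) ≤ 1 := by
      rw [Finite.card_le_one_iff_subsingleton]
      have h0 : ∀ x ∈ R V τ, x = 0 := by
        rintro _ ⟨z, rfl⟩
        change τ • z + z = 0
        rw [hτ1, one_smul, M.char2]
      exact ⟨fun p q => Subtype.ext ((h0 p p.2).trans (h0 q q.2).symm)⟩
    nlinarith [Nat.mul_le_mul (Nat.mul_le_mul hδ hδ) (Nat.mul_le_mul hδ hδ)]
  · have h := N.card_R_mul he1 he hn
    rw [← hτe, hcard, N.card_eq he he1] at h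
    exact (Nat.mul_self_inj.1 h).symm

end Mod

end CfsgLib.Trans3.UniqueClass
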