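import Cfsg.Agent.Lib.Trans3.UniqueClass.Triangle

/-! A second family of lifts of a class of three-transpositions differs by commutators only. -/

set_option autoImplicit false

namespace CfsgLib.Trans3.UniqueClass

variable {Q : Type*} [Group Q] {V : Type*} [AddCommGroup V] [DistribMulAction Q V] {D : Set Q}

namespace Mod

theorem lifts_mem (M : Mod V D) [Finite V] (Γ : Q → V → Prop)
    (hex : ∀ d ∈ D, ∃ w, Γ d w) (hfix : ∀ d ∈ D, ∀ w, Γ d w → d • w = w)
    (hadj : ∀ d ∈ D, ∀ b ∈ D, ¬ Commute d b → ∀ w w2, Γ d w → Γ b w2 →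
      b • w + w2 ∈ R V (d * b))
    (hcomm : ∀ d ∈ D, ∀ x ∈ D, Commute d x → ∀ w w3, Γ d w → Γ x w3 →
      x • w + w = d • w3 + w3)
    (hZ : ∀ q ∈ Subgroup.center Q, q * q = 1 → q = 1)
    (hcent : ∀ c : V, (∀ x ∈ D, x • c = c) → c = 0)
    {d : Q} (hd : d ∈ D) {w : V} (hw : Γ d w) : w ∈ R V d := by
  let P : Q → V → Prop := fun d c => d • c = c ∧ ∀ w, Γ d w → w + c ∈ R V d
  -- commuting members fix each other's lifts
  have hfix2 : ∀ d ∈ D, ∀ x ∈ D, Commute d x → ∀ w, Γ d w → x • w = w := by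
    intro d hd x hx hdx w hw
    by_cases hne : x = d
    · exact hne ▸ hfix d hd w hw
    obtain ⟨w3, hw3⟩ := hex x hx
    refine M.dbl (M.inter_zero hx hd hne (cm_mem x w) ?_)
    rw [hcomm d hd x hx hdx w w3 hw hw3]; exact cm_mem d w3
  have hfixP : ∀ d ∈ D, ∀ x ∈ D, Commute d x → ∀ c, P d c → x • c = c := by
    intro d hd x hx hdx c hc
    obtain ⟨w, hw⟩ := hex d hd
    have h1 := M.comm d hd x hx hdx _ (hc.2 w hw)
    rwa [smul_add, hfix2 d hd x hx hdx w hw, add_right_inj] at h1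
  have hdiff : ∀ d ∈ D, ∀ c c', P d c → P d c' → c + c' ∈ R V d := by
    intro d hd c c' hc hc'
    obtain ⟨w, hw⟩ := hex d hd
    have e : c + c' = (w + c) + (w + c') := by rw [add_add_add_comm, M.char2, zero_add]
    rw [e]; exact add_mem (hc.2 w hw) (hc'.2 w hw)
  -- every edge has a common centre
  have hsum : ∀ d ∈ D, ∀ b ∈ D, ¬ Commute d b → ∀ w w2, Γ d w → Γ b w2 →
      w + w2 ∈ R V (d * b) := by
    intro d hd b hb hn w w2 hw hw2
    have e : w + w2 = (b • w + w) + (b • w + w2) := by rw [add_add_add_comm, M.char2, zero_add]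
    rw [e]
    refine add_mem ?_ (hadj d hd b hb hn w w2 hw hw2)
    rw [M.R_mul hd hb hn]; exact AddSubgroup.mem_sup_right (cm_mem b w)
  have hedge : ∀ d ∈ D, ∀ b ∈ D, ¬ Commute d b → ∃ c, P d c ∧ P b c := by
    intro d hd b hb hn
    have hn' : ¬ Commute b d := fun h => hn h.symm
    have hR : R V (b * d) = R V (d * b) := by
      rw [← R_inv (d * b), mul_inv_rev, inv_eq M.set hd, inv_eq M.set hb]
    obtain ⟨w, hw⟩ := hex d hd
    obtain ⟨w2, hw2⟩ := hex b hb
    have h := hsum d hd b hb hn w w2 hw hw2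
    rw [M.R_mul hd hb hn] at h
    obtain ⟨δ, hδ, β, hβ, hsum'⟩ := AddSubgroup.mem_sup.1 h
    have hc : w + δ = w2 + β := M.dbl (by
      rw [add_add_add_comm, ← hsum', M.char2])
    refine ⟨w + δ, ⟨by rw [smul_add, hfix d hd w hw, M.fixed_self hd hδ], fun w' hw' => ?_⟩,
      ⟨by rw [hc, smul_add, hfix b hb w2 hw2, M.fixed_self hb hβ], fun w2' hw2' => ?_⟩⟩
    · rw [← add_assoc]
      refine add_mem (M.mem_right_of_fixed hb hd hn' ?_ ?_) hδ
      · rw [hR, show w' + w = (w' + w2) + (w + w2) by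
          rw [add_add_add_comm, M.char2, add_zero]]
        exact add_mem (hsum d hd b hb hn w' w2 hw' hw2) (hsum d hd b hb hn w w2 hw hw2)
      · rw [smul_add, hfix d hd w hw, hfix d hd w' hw']
    · rw [hc, ← add_assoc]
      refine add_mem (M.mem_right_of_fixed hd hb hn ?_ ?_) hβ
      · rw [show w2' + w2 = (w + w2') + (w + w2) by rw [add_add_add_comm, M.char2, zero_add]]
        exact add_mem (hsum d hd b hb hn w w2' hw hw2') (hsum d hd b hb hn w w2 hw hw2)
      · rw [smul_add, hfix b hb w2 hw2, hfix b hb w2' hw2']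
  have hext : ∀ b ∈ D, ∀ x ∈ D, ¬ Commute b x → ∀ c, P b c → x • c = c → P x c := by
    intro b hb x hx hn c hc hxc
    obtain ⟨c', hbc', hxc'⟩ := hedge b hb x hx hn
    have h0 := M.eq_zero_of_fixed hb hx hn (hdiff b hb c c' hc hbc')
      (by rw [smul_add, hxc, hxc'.1])
    exact M.dbl h0 ▸ hxc'
  -- centres spread along edges
  have hstep : ∀ d ∈ D, ∀ b ∈ D, ∀ x ∈ D, ¬ Commute d b → ¬ Commute b x → ∀ c,
      P d c → P b c → P x c := by
    intro d hd b hb x hx hn hbx c hdc hbc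
    refine hext b hb x hx hbx c hbc ?_
    by_cases hdx : Commute d x
    · exact hfixP d hd x hx hdx c hdc
    have cd : ∀ z, d * (d * z) = z := invol_cancel (M.set.1 d hd)
    have hbt : ¬ Commute b (d * b * d) := by
      intro h
      rw [braid M.set hd hb hn] at h
      have := h.map (MulAut.conj b).toMonoidHom
      refine hn (Commute.symm ?_)
      simpa [inv_eq M.set hb, mul_assoc, invol_cancel (M.set.1 b hb), sq_one M.set hb] using this
    by_cases hxt : Commute x (d * b * d)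
    · have htc : P (d * b * d) c := hext b hb _ (M.conj' hb hd) hbt c hbc (by
        rw [mul_smul, mul_smul, hdc.1, hbc.1, hdc.1])
      exact hfixP _ (M.conj' hb hd) x hx hxt.symm c htc
    obtain ⟨c', hbc', hxc'⟩ := hedge b hb x hx hbx
    obtain ⟨c'', hdc'', hxc''⟩ := hedge d hd x hx hdx
    have hβ := hdiff b hb c c' hbc hbc'
    have hδ := hdiff d hd c c'' hdc hdc''
    have hξ : c' + c'' = (c + c'') + (c + c') := by
      rw [add_add_add_comm, M.char2, zero_add, add_comm]
    have h0 := M.triangle hx hd hb (fun h => hdx h.symm) (fun h => hbx h.symm) hn hxt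
      (hdiff x hx c' c'' hxc' hxc'') (by
        rw [M.R_mul hd hb hn, hξ]
        exact AddSubgroup.mem_sup.2 ⟨_, hδ, _, hβ, rfl⟩)
    have h1 : c + c'' = c + c' := M.dbl (hξ ▸ h0)
    have h2 := M.dbl (M.disjoint hd hb hn (h1 ▸ hδ) hβ)
    rw [h2]; exact hxc'.1
  obtain ⟨b, hb, hn⟩ : ∃ b ∈ D, ¬ Commute d b := by
    by_contra h
    refine invol_ne_one (M.set.1 d hd) (hZ d ?_ (sq_one M.set hd))
    rw [← Subgroup.centralizer_univ, ← Subgroup.coe_top, ← M.cls.2.2, Subgroup.centralizer_closure]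
    exact Subgroup.mem_centralizer_iff.2 fun x hx =>
      (not_not.1 fun hxd => h ⟨x, hx, hxd⟩ : Commute d x).eq.symm
  obtain ⟨c, hdc, hbc⟩ := hedge d hd b hb hn
  let S : Q → Prop := fun x => x ∈ D ∧ P x c ∧ ∃ y ∈ D, ¬ Commute x y ∧ P y c
  have hnb : ∀ s, S s → ∀ z ∈ D, ¬ Commute s z → S z := by
    rintro s ⟨hs, hsc, y, hy, hsy, hyc⟩ z hz hsz
    exact ⟨hz, hstep y hy s hs z hz (fun h => hsy h.symm) hsz c hyc hsc, s, hs,
      fun h => hsz h.symm, hsc⟩
  have hconj : ∀ g : Q, ∀ s, S s → S (g * s * g⁻¹) := by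
    intro g
    have hg : g ∈ Subgroup.closure D := M.cls.2.2 ▸ Subgroup.mem_top g
    induction hg using Subgroup.closure_induction'' with
    | mem z hz =>
      intro s hs
      rw [inv_eq M.set hz]
      by_cases hzs : Commute z s
      · rwa [hzs.eq, mul_assoc, sq_one M.set hz, mul_one]
      refine hnb z (hnb s hs z hz fun h => hzs h.symm) _ (M.conj' hs.1 hz) fun h => hzs ?_
      have := h.map (MulAut.conj z).toMonoidHom
      simpa [inv_eq M.set hz, mul_assoc, invol_cancel (M.set.1 z hz), sq_one M.set hz] using this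
    | inv_mem z hz =>
      intro s hs
      rw [inv_inv, inv_eq M.set hz]
      by_cases hzs : Commute z s
      · rwa [hzs.eq, mul_assoc, sq_one M.set hz, mul_one]
      refine hnb z (hnb s hs z hz fun h => hzs h.symm) _ (M.conj' hs.1 hz) fun h => hzs ?_
      have := h.map (MulAut.conj z).toMonoidHom
      simpa [inv_eq M.set hz, mul_assoc, invol_cancel (M.set.1 z hz), sq_one M.set hz] using this
    | one => intro s hs; simpa using hs
    | mul p q _ _ hp hq =>
      intro s hs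
      rw [show p * q * s * (p * q)⁻¹ = p * (q * s * q⁻¹) * p⁻¹ by group]
      exact hp _ (hq s hs)
  have hall : ∀ x ∈ D, x • c = c := by
    intro x hx
    obtain ⟨g, rfl⟩ := M.exists_conj hd hx
    exact (hconj g d ⟨hd, hdc, b, hb, hn, hbc⟩).2.1.1
  have h := hdc.2 w hw
  rwa [hcent c hall, add_zero] at h

end Mod

end CfsgLib.Trans3.UniqueClass
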