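import Cfsg.Agent.Lib.Trans3.UniqueClass.Images

/-! Two classes of three-transpositions with quadratic lifts on the same module coincide. -/

set_option autoImplicit false

namespace CfsgLib.Trans3.UniqueClass

variable {Q : Type*} [Group Q] {V : Type*} [AddCommGroup V] [DistribMulAction Q V] {D E : Set Q}

namespace Mod

theorem moved_not_commute (M : Mod V D) (N : Mod V E) [Finite V] {d e : Q} (hd : d ∈ D)
    (he : e ∈ E) (hc : Commute d (e * d * e)) : e * d * e = d := by
  by_contra hne
  have hDE : ∀ a ∈ D, ∀ f ∈ E, f * a * f ∈ D := fun a ha f hf => by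
    have := M.conj ha f; rwa [inv_eq N.set hf] at this
  have hED : ∀ f ∈ E, ∀ a ∈ D, a * f * a ∈ E := fun f hf a ha => by
    have := N.conj hf a; rwa [inv_eq M.set ha] at this
  have ie := sq_one N.set he
  have id' := sq_one M.set hd
  have cd : ∀ z, d * (d * z) = z := invol_cancel (M.set.1 d hd)
  have ce : ∀ z, e * (e * z) = z := invol_cancel (N.set.1 e he)
  -- the two products coincide
  have hc' : Commute e (d * e * d) := by
    have h1 : (d * (e * d * e)) * (d * (e * d * e)) = 1 := by
      rw [← pow_two]; exact (commute_iff_pow_two M.set hd (hDE d hd e he)).1 hc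
    refine ((commute_iff_pow_two N.set (hED e he d hd) he).2 ?_).symm
    rw [pow_two]; simpa only [mul_assoc] using h1
  have hne' : d * e * d ≠ e := fun h => hne (by
    have h' : d * e = e * d := by
      calc d * e = d * e * d * d := by rw [mul_assoc _ d d, id', mul_one]
        _ = e * d := by rw [h]
    rw [← h', mul_assoc, ie, mul_one])
  have h1 := M.card_of_commute_moved N hDE hd he hne hc
  have h2 := N.card_of_commute_moved M hED he hd hne' hc'
  have hδ := M.two_le_card hd
  rw [h1] at h2
  nlinarith [Nat.mul_le_mul (Nat.mul_le_mul hδ hδ) hδ]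

/-- Facts about a member `g` moved by `e`. -/
theorem moved_facts (M : Mod V D) (N : Mod V E) [Finite V] {g e : Q} (hg : g ∈ D) (he : e ∈ E)
    (hne : e * g * e ≠ g) :
    e * g * e ∈ D ∧ ¬ Commute g (e * g * e) ∧ g * (e * g * e) * g ∈ D ∧
      e * (g * (e * g * e) * g) * e = g * (e * g * e) * g ∧
      (g * (e * g * e) * g) * g * (g * (e * g * e) * g) = e * g * e := by
  have hg' : e * g * e ∈ D := by have := M.conj hg e; rwa [inv_eq N.set he] at this
  have hn : ¬ Commute g (e * g * e) := fun h => hne (M.moved_not_commute N hg he h)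
  have hr : g * (e * g * e) * g = (e * g * e) * g * (e * g * e) := braid M.set hg hg' hn
  have ce : ∀ z, e * (e * z) = z := invol_cancel (N.set.1 e he)
  have cg : ∀ z, g * (g * z) = z := invol_cancel (M.set.1 g hg)
  refine ⟨hg', hn, M.conj' hg' hg, ?_, ?_⟩
  · conv_rhs => rw [hr]
    simp only [mul_assoc, ce, sq_one N.set he, mul_one]
  · generalize hq : e * g * e = g' at hr hg' ⊢
    have cg' : ∀ z, g' * (g' * z) = z := invol_cancel (M.set.1 g' hg')
    calc g * g' * g * g * (g * g' * g) = g * g' * (g * g' * g) := by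
          simp only [mul_assoc, cg]
      _ = g * g' * (g' * g * g') := by rw [hr]
      _ = g' := by simp only [mul_assoc, cg', cg]

theorem range_le (M : Mod V D) (N : Mod V E) [Finite V] {g e : Q} (hg : g ∈ D) (he : e ∈ E)
    (hne : e * g * e ≠ g) : R V e ≤ R V (g * (e * g * e)) := by
  obtain ⟨hg', hn, -⟩ := M.moved_facts N hg he hne
  have he' : g * e * g ∈ E := by have := N.conj he g; rwa [inv_eq M.set hg] at this
  have hn' : ¬ Commute (g * e * g) e := fun h => hn ((commute_iff_pow_two M.set hg hg').2 (by
    have := (commute_iff_pow_two N.set he' he).1 h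
    rw [pow_two] at this ⊢
    simpa only [mul_assoc] using this))
  rw [show g * (e * g * e) = g * e * g * e by simp only [mul_assoc], N.R_mul he' he hn']
  exact le_sup_right

/-- A fixed member commutes with every centre. -/
theorem fixed_commute (M : Mod V D) (N : Mod V E) [Finite V] {g f e : Q} (hg : g ∈ D)
    (hf : f ∈ D) (he : e ∈ E) (hne : e * g * e ≠ g) (hfe : e * f * e = f) :
    Commute f (g * (e * g * e) * g) := by
  obtain ⟨hg', hn, hr, -, -⟩ := M.moved_facts N hg he hne
  by_contra hfr
  by_cases hfg : Commute f g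
  · refine hfr ?_
    have hfg' : Commute f (e * g * e) := by
      have := (N.commute_swap2 (a := f) (b := g) he).2 hfg; rwa [hfe] at this
    exact (hfg.mul_right hfg').mul_right hfg
  have hfg' : ¬ Commute f (e * g * e) := fun h => hfg (by
    rw [← hfe] at h; exact (N.commute_swap2 he).1 h)
  generalize hg'_def : e * g * e = g' at *
  have ie := sq_one N.set he
  have vf := inv_eq M.set hf
  have vg := inv_eq M.set hg
  have vg' := inv_eq M.set hg'
  have cf : ∀ z, f * (f * z) = z := invol_cancel (M.set.1 f hf)
  have cg : ∀ z, g * (g * z) = z := invol_cancel (M.set.1 g hg)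
  have ce : ∀ z, e * (e * z) = z := invol_cancel (N.set.1 e he)
  set W := R V (g * g') with hW
  have hRe : R V e ≤ W := by rw [hW, ← hg'_def]; exact M.range_le N hg he (hg'_def.symm ▸ hne)
  have hef : ∀ x ∈ R V e, f • x ∈ R V e := fun x hx => smul_mem_of_conj (by
    rw [vf]
    calc f * e * f = e * (e * f * e) * f := by simp only [mul_assoc, ce]
      _ = e := by rw [hfe, mul_assoc, sq_one M.set hf, mul_one]) hx
  -- the rotations `g g'` and its `f`-image commute
  obtain ⟨u, hu⟩ : ∃ u, f * g = u := ⟨_, rfl⟩
  obtain ⟨v, hv⟩ : ∃ v, f * g' = v := ⟨_, rfl⟩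
  have huv : ¬ Commute (f * g * f) g' := fun h => hfr (by
    have := h.map (MulAut.conj g).toMonoidHom
    rw [braid M.set hf hg hfg] at this
    simpa [vg, mul_assoc, cg, sq_one M.set hg] using this)
  have hcomm : Commute (g * g') (f * (g * g') * f) := by
    have h : (u⁻¹ * v) * (u * v⁻¹) = (u * v⁻¹) * (u⁻¹ * v) := by
      refine commute_of_exp_three (hu ▸ M.cube hf hg hfg) (hv ▸ M.cube hf hg' hfg') ?_
      rw [← hu, ← hv, show f * g * (f * g') = f * g * f * g' by simp only [mul_assoc]]
      exact M.cube (M.conj' hg hf) hg' huv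
    have e1 : u⁻¹ * v = g * g' := by rw [← hu, ← hv, mul_inv_rev, vf, vg, mul_assoc, cf]
    have e2 : u * v⁻¹ = f * (g * g') * f := by
      rw [← hu, ← hv, mul_inv_rev, vf, vg']; simp only [mul_assoc]
    rw [e1, e2] at h; exact h
  -- the part of `W` moved to `W` by `f` is everything
  have hWρ : ∀ x ∈ W, f • x ∈ W → (g * g') • x ∈ W ∧ f • (g * g') • x ∈ W := by
    intro x hx hfx
    refine ⟨smul_mem_of_conj (by rw [mul_inv_cancel_right]) hx, ?_⟩
    have e1 : f • (g * g') • x = (f * (g * g') * f) • f • x := by
      simp only [smul_smul, mul_assoc, sq_one M.set hf, mul_one]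
    rw [e1]
    exact smul_mem_of_conj (by rw [← hcomm.eq, mul_inv_cancel_right]) hfx
  have hn' : ¬ Commute (g * e * g) e := fun h => hn ((commute_iff_pow_two M.set hg hg').2 (by
    have := (commute_iff_pow_two N.set
      (by have := N.conj he g; rwa [vg] at this) he).1 h
    rw [pow_two] at this ⊢
    rw [← hg'_def]; simpa only [mul_assoc] using this))
  have hfW : ∀ x ∈ W, f • x ∈ W := by
    have he' : g * e * g ∈ E := by have := N.conj he g; rwa [vg] at this
    intro x hx
    rw [hW, ← hg'_def, show g * (e * g * e) = g * e * g * e by simp only [mul_assoc],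
      N.R_mul he' he hn'] at hx
    obtain ⟨p, hp, q, hq, rfl⟩ := AddSubgroup.mem_sup.1 hx
    rw [smul_add]
    refine add_mem ?_ (hRe (hef q hq))
    obtain ⟨z, hz, rfl⟩ := N.exists_preimage he he' (fun h => hn' h.symm) hp
    rw [smul_add]
    refine add_mem ?_ (hRe (hef z hz))
    have e1 : (g * g') • z = (g * e * g) • z := by
      rw [← hg'_def, show g * (e * g * e) = g * e * g * e by simp only [mul_assoc], mul_smul,
        N.fixed_self he hz]
    rw [← e1]
    exact (hWρ z (hRe hz) (hRe (hef z hz))).2
  -- hence `[V,f] ⊆ W`, against the triangle lemma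
  have hfW' : R V f ≤ W := fun y hy => by
    obtain ⟨z, hz, rfl⟩ := M.exists_preimage hg hf (fun h => hfg h.symm) hy
    have hzW : z ∈ W := by rw [hW, M.R_mul hg hg' hn]; exact AddSubgroup.mem_sup_left hz
    exact add_mem (hfW z hzW) hzW
  have h2 := M.two_le_card hf
  have h0 : ∀ y : R V f, y = 0 := fun y =>
    Subtype.ext (M.triangle hf hg hg' hfg hfg' hn hfr y.2 (hfW' y.2))
  have : Subsingleton (R V f) := ⟨fun p q => (h0 p).trans (h0 q).symm⟩
  rw [Nat.card_unique] at h2; omega

/-- The centre of a moved member is unchanged along edges leaving the moved pair. -/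
theorem centre_eq (M : Mod V D) (N : Mod V E) [Finite V] {g b e : Q} (hg : g ∈ D)
    (hb : b ∈ D) (he : e ∈ E) (hne : e * g * e ≠ g) (hgb : ¬ Commute g b)
    (hbg' : Commute b (e * g * e)) (hbne : b ≠ e * g * e) :
    e * b * e ≠ b ∧ g * (e * g * e) * g = b * (e * b * e) * b := by
  obtain ⟨hg', hn, hr, hre, -⟩ := M.moved_facts N hg he hne
  have hnb : e * b * e ≠ b := fun h => hgb (by
    have := (N.commute_swap (a := g) (b := b) he).1 hbg'.symm; rwa [h] at this)
  refine ⟨hnb, ?_⟩
  obtain ⟨hb', hnbb, hq, hqe, -⟩ := M.moved_facts N hb he hnb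
  have hcqr := M.fixed_commute N hg hq he hne hqe
  have hgb' : Commute g (e * b * e) := (N.commute_swap he).1 hbg'.symm
  have hb'g' : ¬ Commute (e * b * e) (e * g * e) := fun h =>
    hgb ((N.commute_swap2 he).1 h).symm
  generalize hg'_def : e * g * e = g' at *
  generalize hb'_def : e * b * e = b' at *
  have ce : ∀ z, e * (e * z) = z := invol_cancel (N.set.1 e he)
  have cg : ∀ z, g * (g * z) = z := invol_cancel (M.set.1 g hg)
  have cb' : ∀ z, b' * (b' * z) = z := invol_cancel (M.set.1 b' hb')
  have ib' := sq_one M.set hb'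
  have ig := sq_one M.set hg
  have hb'r : ¬ Commute b' (g * g' * g) := fun h => hb'g' (by
    have := h.map (MulAut.conj g).toMonoidHom
    have h1 : g * b' * g = b' := by rw [hgb'.eq, mul_assoc, ig, mul_one]
    simpa [inv_eq M.set hg, mul_assoc, cg, ig, h1, show g * (b' * g) = b' by
      rw [← mul_assoc, h1]] using this)
  obtain ⟨h, hh⟩ : ∃ h, b * g * b = h := ⟨_, rfl⟩
  have hhD : h ∈ D := hh ▸ M.conj' hg hb
  have hh' : e * h * e = b' * g' * b' := by
    rw [← hh, ← hb'_def, ← hg'_def]; simp only [mul_assoc, ce]
  obtain ⟨x, hx⟩ : ∃ x, b' * g = x := ⟨_, rfl⟩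
  have hxh : x * h * x⁻¹ = b * b' * b := by
    rw [← hx, ← hh, braid M.set hb hg fun h => hgb h.symm, mul_inv_rev, inv_eq M.set hg,
      inv_eq M.set hb']
    calc b' * g * (g * b * g) * (g * b') = b' * b * b' := by simp only [mul_assoc, cg, ig]
      _ = b * b' * b := (braid M.set hb hb' hnbb).symm
  have hxh' : x * (b' * g' * b') * x⁻¹ = g * g' * g := by
    have hbr : b' * (g * g' * g) * b' = (g * g' * g) * b' * (g * g' * g) :=
      braid M.set hb' hr hb'r
    rw [← hx, mul_inv_rev, inv_eq M.set hg, inv_eq M.set hb',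
      braid M.set hb' hg' hb'g']
    calc b' * g * (g' * b' * g') * (g * b') = b' * ((g * g' * g) * b' * (g * g' * g)) * b' := by
          have h1 : g * b' * g = b' := by rw [hgb'.eq, mul_assoc, ig, mul_one]
          rw [show (g * g' * g) * b' * (g * g' * g) = g * g' * (g * b' * g) * (g' * g) by
            simp only [mul_assoc], h1]
          simp only [mul_assoc]
      _ = g * g' * g := by rw [← hbr]; simp only [mul_assoc, cb', ib', mul_one]
  have hch : Commute h (b' * g' * b') := by
    rw [← commute_conj_iff x, hxh, hxh']; exact hcqr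
  have heq := M.moved_not_commute N hhD he (hh'.symm ▸ hch)
  rw [hh'] at heq
  rw [← hxh, ← hxh', heq]

/-- All centres agree. -/
theorem centre_unique (M : Mod V D) (N : Mod V E) [Finite V] {g b e : Q} (hg : g ∈ D)
    (hb : b ∈ D) (he : e ∈ E) (hneg : e * g * e ≠ g) (hneb : e * b * e ≠ b) :
    g * (e * g * e) * g = b * (e * b * e) * b := by
  obtain ⟨hg', hn, hr, hre, hrg⟩ := M.moved_facts N hg he hneg
  obtain ⟨hb', hnb, hs, hse, -⟩ := M.moved_facts N hb he hneb
  -- adjacency of distinct centres and moved members
  have key : ∀ a ∈ D, e * a * e ≠ a → ∀ c ∈ D, e * c * e ≠ c →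
      a * (e * a * e) * a ≠ c * (e * c * e) * c →
      ¬ Commute (c * (e * c * e) * c) a := by
    intro a ha hnea c hc hnec hac
    obtain ⟨ha', hna, -, hare, hra⟩ := M.moved_facts N ha he hnea
    obtain ⟨hc', hnc, hrc, hrce, hrc'⟩ := M.moved_facts N hc he hnec
    have ee : e * (e * c * e) * e = c := by
      simp only [mul_assoc, invol_cancel (N.set.1 e he), sq_one N.set he, mul_one]
    have hrc2 : (e * c * e) * (e * (e * c * e) * e) * (e * c * e) = c * (e * c * e) * c := by
      rw [ee]; exact (braid M.set hc hc' hnc).symm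
    have hne_c' : e * (e * c * e) * e ≠ e * c * e := by rw [ee]; exact fun h => hnec h.symm
    have ac1 : a ≠ c := fun h => hac (by rw [h])
    have ac2 : a ≠ e * c * e := fun h => hac (by rw [h]; exact hrc2)
    -- `a` is joined to `c` and to `e c e`
    have hac' : ¬ Commute c a := by
      intro hca
      have hc'a : Commute (e * c * e) a := by
        by_contra h
        obtain ⟨-, h2⟩ := M.centre_eq N hc' ha he hne_c' h (by rw [ee]; exact hca.symm)
          (by rw [ee]; exact ac1)
        exact hac (h2.symm.trans hrc2)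
      -- the two rotations would have independent images
      have h1 : Commute c (e * a * e) := (N.commute_swap he).1 hc'a
      have h2 : Commute (e * c * e) (e * a * e) := (N.commute_swap2 he).2 hca
      have h0 : ∀ x ∈ R V e, x = 0 := by
        intro x hx
        have hxc := M.range_le N hc he hnec hx
        have hxa := M.range_le N ha he hnea hx
        have hfix : (c * (e * c * e)) • x = x := by
          rw [M.R_mul ha ha' hna] at hxa
          obtain ⟨p, hp, q, hq, rfl⟩ := AddSubgroup.mem_sup.1 hxa
          rw [mul_smul, smul_add (e * c * e), M.comm a ha _ hc' hc'a.symm p hp,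
            M.comm _ ha' _ hc' h2.symm q hq, smul_add c, M.comm a ha c hc hca.symm p hp,
            M.comm _ ha' c hc h1.symm q hq]
        have := M.norm_zero (M.cube hc hc' hnc) hxc
        rwa [hfix, hfix, M.char2, zero_add] at this
      have h2 := N.two_le_card he
      have : Subsingleton (R V e) :=
        ⟨fun p q => Subtype.ext ((h0 p p.2).trans (h0 q q.2).symm)⟩
      rw [Nat.card_unique] at h2; omega
    intro hcom
    have icc := sq_one M.set hc
    have cc : ∀ z, c * (c * z) = z := invol_cancel (M.set.1 c hc)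
    obtain ⟨h, hh⟩ : ∃ h, c * a * c = h := ⟨_, rfl⟩
    have hhD : h ∈ D := hh ▸ M.conj' ha hc
    have hh1 : Commute (e * c * e) h := by
      have := hcom.map (MulAut.conj c).toMonoidHom
      simpa [inv_eq M.set hc, mul_assoc, cc, icc, ← hh] using this
    have hch : ¬ Commute c h := fun hx => hac' (by
      have := hx.map (MulAut.conj c).toMonoidHom
      simpa [inv_eq M.set hc, mul_assoc, cc, icc, ← hh] using this)
    have hhne : h ≠ e * c * e := fun hx => by
      have : a = c * (e * c * e) * c := by rw [← hx, ← hh]; simp only [mul_assoc, cc, icc, mul_one]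
      exact hnea (by rw [this]; exact hrce)
    obtain ⟨hneh, hrh⟩ := M.centre_eq N hc hhD he hnec hch hh1.symm hhne
    obtain ⟨-, -, -, -, hrh'⟩ := M.moved_facts N hhD he hneh
    rw [← hrh] at hrh'
    -- `e` acts on `c` and `h` as the centre does, hence on `a`
    set r := c * (e * c * e) * c with hr_def
    have ha_eq : a = c * h * c := by rw [← hh]; simp only [mul_assoc, cc, icc, mul_one]
    refine hnea ?_
    calc e * a * e = (e * c * e) * (e * h * e) * (e * c * e) := by
          rw [ha_eq]; simp only [mul_assoc, invol_cancel (N.set.1 e he)]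
      _ = (r * c * r) * (r * h * r) * (r * c * r) := by rw [hrc', hrh']
      _ = r * a * r := by
          rw [ha_eq]; simp only [mul_assoc, invol_cancel (M.set.1 r hrc)]
      _ = a := by rw [hcom.eq, mul_assoc, sq_one M.set hrc, mul_one]
  by_contra hne
  refine hne (M.twins _ hr _ hs fun x hx => ?_)
  by_cases hex : e * x * e = x
  · exact iff_of_true (M.fixed_commute N hb hx he hneb hex).symm
      (M.fixed_commute N hg hx he hneg hex).symm
  · have own : ∀ c ∈ D, e * c * e ≠ c → x * (e * x * e) * x = c * (e * c * e) * c →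
        ¬ Commute (c * (e * c * e) * c) x := by
      intro c _ _ h hcom
      obtain ⟨hx', hnx, -, -, -⟩ := M.moved_facts N hx he hex
      rw [← h] at hcom
      have := hcom.map (MulAut.conj x).toMonoidHom
      refine hnx (Commute.symm ?_)
      simpa [inv_eq M.set hx, mul_assoc, invol_cancel (M.set.1 x hx), sq_one M.set hx] using this
    refine iff_of_false ?_ ?_
    · by_cases h : x * (e * x * e) * x = b * (e * b * e) * b
      · exact own b hb hneb h
      · exact key x hx hex b hb hneb h
    · by_cases h : x * (e * x * e) * x = g * (e * g * e) * g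
      · exact own g hg hneg h
      · exact key x hx hex g hg hneg h

/-- The two classes are equal. -/
theorem eq_of_center (M : Mod V D) (N : Mod V E) [Finite V]
    (hZ : ∀ q ∈ Subgroup.center Q, q * q = 1 → q = 1) : E = D := by
  obtain ⟨e, he, hE⟩ := N.cls.2.1
  have ie := sq_one N.set he
  have hcen : ∀ q : Q, (∀ x ∈ D, q * x = x * q) → q ∈ Subgroup.center Q := by
    intro q h
    rw [← Subgroup.centralizer_univ, ← Subgroup.coe_top, ← M.cls.2.2, Subgroup.centralizer_closure]
    exact Subgroup.mem_centralizer_iff.2 fun x hx => (h x hx).symm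
  suffices hsuff : e ∈ D by
    obtain ⟨d, hd, hD⟩ := M.cls.2.1
    rw [hD] at hsuff
    rw [hE, hD]; exact (IsConj.conjugatesOf_eq hsuff).symm
  have hmoved : ∃ g ∈ D, e * g * e ≠ g := by
    by_contra h
    refine invol_ne_one (N.set.1 e he) (hZ e (hcen e fun x hx => ?_) ie)
    have hx' : e * x * e = x := by_contra fun h' => h ⟨x, hx, h'⟩
    calc e * x = e * x * e * e := by rw [mul_assoc _ e e, ie, mul_one]
      _ = x * e := by rw [hx']
  obtain ⟨g, hg, hne⟩ := hmoved
  obtain ⟨-, -, hr, hre, -⟩ := M.moved_facts N hg he hne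
  set r := g * (e * g * e) * g with hr_def
  have ir := sq_one M.set hr
  have hsame : ∀ x ∈ D, e * x * e = r * x * r := by
    intro x hx
    by_cases hex : e * x * e = x
    · rw [hex, (M.fixed_commute N hg hx he hne hex).symm.eq, mul_assoc, ir, mul_one]
    · obtain ⟨-, -, -, -, h⟩ := M.moved_facts N hx he hex
      rw [← M.centre_unique N hg hx he hne hex, ← hr_def] at h
      exact h.symm
  have hre' : e * r = r * e := by
    calc e * r = e * r * e * e := by rw [mul_assoc _ e e, ie, mul_one]
      _ = r * e := by rw [hre]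
  have h1 : r * e = 1 := by
    refine hZ _ (hcen _ fun x hx => ?_) ?_
    · calc r * e * x = r * (e * x * e) * e := by simp only [mul_assoc, ie, mul_one]
        _ = r * (r * x * r) * e := by rw [hsame x hx]
        _ = x * (r * e) := by simp only [mul_assoc, invol_cancel (M.set.1 r hr)]
    · rw [mul_assoc, ← mul_assoc e r, hre', mul_assoc r e, ie, mul_one, ir]
  have : e = r := by rw [← inv_eq M.set hr]; exact eq_inv_of_mul_eq_one_right h1
  exact this ▸ hr

end Mod

end CfsgLib.Trans3.UniqueClass
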