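import Cfsg.Agent.Lib.Trans3.UniqueClass.Main
import Cfsg.Agent.Lib.Trans3.UniqueClass.Lifts
import Cfsg.Agent.Lib.Comp.FStar
import Cfsg.Agent.Lib.Solvable.PCore

/-! The module of `G / O₂(G)` attached to a class of three-transpositions when `F*(G) = O₂(G)` is
elementary abelian. -/

set_option autoImplicit false

open scoped IsMulCommutative

namespace CfsgLib.Trans3.UniqueClass

variable {G : Type*} [Group G] (W : Subgroup G) [W.Normal] [IsMulCommutative W]

/-- Conjugation of `G` on the normal subgroup `W`, written additively. -/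
def conjEnd : G →* AddMonoid.End (Additive W) where
  toFun g := MonoidHom.toAdditive (MulAut.conjNormal g).toMonoidHom
  map_one' := by
    refine AddMonoidHom.ext fun v => Additive.toMul.injective (Subtype.ext ?_)
    show ((MulAut.conjNormal (1 : G)) v.toMul : G) = ((v.toMul : W) : G)
    simp
  map_mul' g h := by
    refine AddMonoidHom.ext fun v => Additive.toMul.injective (Subtype.ext ?_)
    show ((MulAut.conjNormal (g * h)) v.toMul : G) =
      ((MulAut.conjNormal g) ((MulAut.conjNormal h) v.toMul) : G)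
    simp [mul_assoc]

/-- The induced action of `G ⧸ W`. -/
def quotEnd : G ⧸ W →* AddMonoid.End (Additive W) :=
  QuotientGroup.lift W (conjEnd W) fun g hg => by
    refine AddMonoidHom.ext fun v => Additive.toMul.injective (Subtype.ext ?_)
    show ((MulAut.conjNormal g) v.toMul : G) = ((v.toMul : W) : G)
    rw [MulAut.conjNormal_apply]
    have h := congrArg Subtype.val (mul_comm' (⟨g, hg⟩ : W) v.toMul)
    simp only [Subgroup.coe_mul] at h
    rw [h, mul_inv_cancel_right]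

instance quotAct : DistribMulAction (G ⧸ W) (Additive W) :=
  DistribMulAction.compHom _ (quotEnd W)

/-- The value in `G` of an element of the module. -/
def val (v : Additive W) : G := ((v.toMul : W) : G)

theorem val_mem (v : Additive W) : val W v ∈ W := (v.toMul : W).2

theorem val_injective : Function.Injective (val W) := fun _ _ h =>
  Additive.toMul.injective (Subtype.ext h)

theorem val_smul (g : G) (v : Additive W) :
    val W ((g : G ⧸ W) • v) = g * val W v * g⁻¹ := MulAut.conjNormal_apply g v.toMul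

theorem val_add (v w : Additive W) : val W (v + w) = val W v * val W w := rfl

theorem val_zero : val W 0 = 1 := rfl

end CfsgLib.Trans3.UniqueClass

open scoped IsMulCommutative

namespace CfsgLib.Trans3.UniqueClass

variable {G : Type*} [Group G] [Finite G] (W : Subgroup G) [W.Normal] [IsMulCommutative W]
  {D : Set G}

/-- Lifts commute iff the images do. -/
theorem commute_of_quot (hW : ∀ x ∈ W, x ^ 2 = 1) (hD : Cfsg.IsThreeTranspositionSet D) {a b : G}
    (ha : a ∈ D) (hb : b ∈ D) (h : Commute (a : G ⧸ W) (b : G ⧸ W)) : Commute a b := by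
  by_contra hn
  have h3 := pow_three hD ha hb hn
  have hq : ((a * b : G) : G ⧸ W) ^ 2 = 1 := by
    rw [QuotientGroup.mk_mul, h.mul_pow, pow_two, pow_two, ← QuotientGroup.mk_mul,
      ← QuotientGroup.mk_mul, sq_one hD ha, sq_one hD hb, QuotientGroup.mk_one, one_mul]
  rw [← QuotientGroup.mk_pow, QuotientGroup.eq_one_iff] at hq
  have h4 : (a * b) ^ 4 = 1 := by rw [show 4 = 2 * 2 from rfl, pow_mul]; exact hW _ hq
  rw [pow_succ, h3, one_mul] at h4
  exact hn ((commute_iff_pow_two hD ha hb).2 (by rw [h4, one_pow]))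

theorem not_mem (hD : Cfsg.IsThreeTranspositionClass D) (hZ : Subgroup.center G = ⊥) {d : G}
    (hd : d ∈ D) : d ∉ W := fun hdW => by
  obtain ⟨d0, hd0, hD0⟩ := hD.2.1
  have hsub : D ⊆ W := by
    intro x hx
    rw [hD0] at hx hd
    obtain ⟨g, rfl⟩ := isConj_iff.1 (IsConj.trans (IsConj.symm hd) hx)
    exact Subgroup.Normal.conj_mem inferInstance d hdW g
  have hall : ∀ x : G, x ∈ W := fun x =>
    (Subgroup.closure_le W).2 hsub (hD.2.2 ▸ Subgroup.mem_top x)
  have : d ∈ Subgroup.center G := Subgroup.mem_center_iff.2 fun x =>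
    congrArg Subtype.val (mul_comm' (⟨x, hall x⟩ : W) ⟨d, hdW⟩)
  rw [hZ, Subgroup.mem_bot] at this
  exact invol_ne_one (hD.1.1 d hd) this

theorem image_class (hD : Cfsg.IsThreeTranspositionClass D) (hZ : Subgroup.center G = ⊥) :
    Cfsg.IsThreeTranspositionClass (((↑) : G → G ⧸ W) '' D) := by
  refine ⟨⟨?_, ?_⟩, ?_, ?_⟩
  · rintro _ ⟨d, hd, rfl⟩
    haveI : Fact (Nat.Prime 2) := ⟨Nat.prime_two⟩
    refine orderOf_eq_prime ?_ fun h => not_mem W hD hZ hd ((QuotientGroup.eq_one_iff d).1 h)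
    rw [← QuotientGroup.mk_pow, pow_two, sq_one hD.1 hd, QuotientGroup.mk_one]
  · rintro _ ⟨a, ha, rfl⟩ _ ⟨b, hb, rfl⟩
    rcases hD.1.2 a ha b hb with h | h
    · left; rw [← QuotientGroup.mk_mul, ← QuotientGroup.mk_pow, h, QuotientGroup.mk_one]
    · right; rw [← QuotientGroup.mk_mul, ← QuotientGroup.mk_pow, h, QuotientGroup.mk_one]
  · obtain ⟨d, hd, hD'⟩ := hD.2.1
    refine ⟨d, ⟨d, hd, rfl⟩, ?_⟩
    ext q
    constructor
    · rintro ⟨x, hx, rfl⟩
      rw [hD'] at hx
      exact (QuotientGroup.mk' W).map_isConj hx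
    · intro h
      obtain ⟨g, hg⟩ := isConj_iff.1 h
      obtain ⟨g, rfl⟩ := QuotientGroup.mk_surjective g
      exact ⟨g * d * g⁻¹, hD' ▸ isConj_iff.2 ⟨g, rfl⟩,
        by rw [QuotientGroup.mk_mul, QuotientGroup.mk_mul, QuotientGroup.mk_inv]; exact hg⟩
  · rw [← QuotientGroup.coe_mk' W, ← MonoidHom.map_closure, hD.2.2,
      Subgroup.map_top_of_surjective _ (QuotientGroup.mk'_surjective W)]

/-- An element of `[W, a]` in `G`. -/
theorem val_cm (hW : ∀ x ∈ W, x ^ 2 = 1) (hD : Cfsg.IsThreeTranspositionSet D) {a : G}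
    (ha : a ∈ D) (v : Additive W) :
    val W ((a : G ⧸ W) • v + v) = a * (val W v * a * (val W v)⁻¹) := by
  have hv : (val W v)⁻¹ = val W v :=
    inv_eq_of_mul_eq_one_right (by rw [← pow_two]; exact hW _ (val_mem W v))
  rw [val_add, val_smul, inv_eq hD ha, hv]
  simp only [mul_assoc]

theorem image_mod (hW : ∀ x ∈ W, x ^ 2 = 1) (hc : Subgroup.centralizer (W : Set G) ≤ W)
    (hQ : Cfsg.pCore 2 (G ⧸ W) = ⊥) (hD : Cfsg.IsThreeTranspositionClass D)
    (hZ : Subgroup.center G = ⊥) : Mod (Additive W) (((↑) : G → G ⧸ W) '' D) := by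
  have hI := image_class W hD hZ
  have hconj : ∀ g : G, ∀ a ∈ D, g * a * g⁻¹ ∈ D := by
    intro g a ha
    obtain ⟨d, -, hD'⟩ := hD.2.1
    rw [hD'] at ha ⊢
    exact IsConj.trans ha (isConj_iff.2 ⟨g, rfl⟩)
  have hsame : ∀ (a : G) (v : Additive W),
      ((val W v * a * (val W v)⁻¹ : G) : G ⧸ W) = (a : G ⧸ W) := by
    intro a v
    rw [QuotientGroup.mk_mul, QuotientGroup.mk_mul, QuotientGroup.mk_inv,
      (QuotientGroup.eq_one_iff _).2 (val_mem W v), one_mul, inv_one, mul_one]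
  refine ⟨hI, fun v => val_injective W ?_, ?_, ?_, ?_, ?_⟩
  · rw [val_add, val_zero, ← pow_two]; exact hW _ (val_mem W v)
  · rintro _ ⟨a, ha, rfl⟩ _ ⟨b, hb, rfl⟩ hab _ ⟨v, rfl⟩
    have h1 := commute_of_quot W hW hD.1 ha hb hab
    have h2 : Commute (val W v * a * (val W v)⁻¹) b :=
      commute_of_quot W hW hD.1 (hconj _ a ha) hb (by rwa [hsame])
    refine val_injective W ?_
    show val W ((b : G ⧸ W) • ((a : G ⧸ W) • v + v)) = val W ((a : G ⧸ W) • v + v)
    rw [val_smul, val_cm W hW hD.1 ha, ← (h1.mul_left h2).eq, mul_inv_cancel_right]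
  · rintro _ ⟨a, ha, rfl⟩ _ ⟨b, hb, rfl⟩ hab _ ⟨v, rfl⟩ hfix
    have h1 : ¬ Commute a b := fun h => hab (h.map (QuotientGroup.mk' W))
    have h2 : ¬ Commute (val W v * a * (val W v)⁻¹) b := fun h => hab (by
      have := h.map (QuotientGroup.mk' W)
      simpa only [QuotientGroup.mk'_apply, hsame] using this)
    have hfix' := congrArg (val W) hfix
    change val W (((a : G ⧸ W) * (b : G ⧸ W)) • ((a : G ⧸ W) • v + v)) =
      val W ((a : G ⧸ W) • v + v) at hfix'
    rw [← QuotientGroup.mk_mul, val_smul] at hfix'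
    refine val_injective W ?_
    show val W ((a : G ⧸ W) • v + v) = val W 0
    obtain ⟨X, hX⟩ : ∃ X, val W ((a : G ⧸ W) • v + v) = X := ⟨_, rfl⟩
    have hX2 : X ^ 2 = 1 := hX ▸ hW _ (val_mem W _)
    have hXX : X⁻¹ = X := inv_eq_of_mul_eq_one_right (by rw [← pow_two]; exact hX2)
    rw [hX] at hfix'
    rw [val_cm W hW hD.1 ha] at hX
    rw [val_cm W hW hD.1 ha, hX, val_zero]
    have ha' : val W v * a * (val W v)⁻¹ = a * X := by
      rw [← hX, invol_cancel (hD.1.1 a ha)]
    have ha'' : a * X = X * a := by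
      have h := sq_one hD.1 (hconj (val W v) a ha)
      rw [ha'] at h
      calc a * X = (a * X)⁻¹ := eq_inv_of_mul_eq_one_left h
        _ = X * a := by rw [mul_inv_rev, hXX, inv_eq hD.1 ha]
    have hcom : Commute X (a * b) := by
      show X * (a * b) = a * b * X
      calc X * (a * b) = a * b * X * (a * b)⁻¹ * (a * b) := by rw [hfix']
        _ = a * b * X := inv_mul_cancel_right _ _
    have h3 := pow_three hD.1 (hconj _ a ha) hb h2
    rw [ha', ha'', mul_assoc, hcom.mul_pow, pow_three hD.1 ha hb h1, mul_one] at h3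
    exact eq_one_of_sq_cube hX2 h3
  · intro a ha b hb h
    have hG : Cfsg.IsThreeTranspositionGroup (((↑) : G → G ⧸ W) '' D) := by
      refine ⟨hI.1, fun q x hx => ?_, hI.2.2⟩
      obtain ⟨d, -, hD'⟩ := hI.2.1
      rw [hD'] at hx ⊢
      exact IsConj.trans hx (isConj_iff.2 ⟨q, rfl⟩)
    have := ((vRel_iff hG ha).1 ⟨ha, hb, h⟩).2
    rw [hQ, Subgroup.mem_bot] at this
    rw [← inv_eq hI.1 ha]; exact inv_eq_of_mul_eq_one_right this
  · intro q hq
    obtain ⟨g, rfl⟩ := QuotientGroup.mk_surjective q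
    refine (QuotientGroup.eq_one_iff g).2 (hc (Subgroup.mem_centralizer_iff.2 fun x hx => ?_))
    have h := congrArg (val W) (hq (Additive.ofMul (⟨x, hx⟩ : W)))
    rw [val_smul] at h
    exact (mul_inv_eq_iff_eq_mul.1 h).symm

/-- The main theorem. -/
theorem subset_of_elementary (hW : ∀ x ∈ W, x ^ 2 = 1) (hc : Subgroup.centralizer (W : Set G) ≤ W)
    (hQ : Cfsg.pCore 2 (G ⧸ W) = ⊥) (hD : Cfsg.IsThreeTranspositionClass D)
    (hZ : Subgroup.center G = ⊥) {E : Set G} (hE : Cfsg.IsThreeTranspositionClass E) : E ⊆ D := by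
  haveI : Fact (Nat.Prime 2) := ⟨Nat.prime_two⟩
  have M := image_mod W hW hc hQ hD hZ
  have N := image_mod W hW hc hQ hE hZ
  have hZQ : ∀ q ∈ Subgroup.center (G ⧸ W), q * q = 1 → q = 1 := by
    intro q hq hqq
    have hn : (Subgroup.zpowers q).Normal := ⟨fun x hx g => by
      rw [Subgroup.mem_center_iff.1 (Subgroup.zpowers_le.2 hq hx) g, mul_inv_cancel_right]
      exact hx⟩
    have hp : IsPGroup 2 (Subgroup.zpowers q) := by
      have hdvd : orderOf q ∣ 2 ^ 1 := by
        rw [pow_one]; exact orderOf_dvd_of_pow_eq_one (by rwa [pow_two])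
      obtain ⟨k, -, hk⟩ := (Nat.dvd_prime_pow Nat.prime_two).1 hdvd
      exact IsPGroup.of_card (by rw [Nat.card_zpowers, hk])
    have := (CfsgLib.Amalgam.le_pCore hn hp) (Subgroup.mem_zpowers q)
    rwa [hQ, Subgroup.mem_bot] at this
  have heq := M.eq_of_center N hZQ
  have hlift : ∀ d ∈ D, ∃ e ∈ E, (e : G ⧸ W) = (d : G ⧸ W) := by
    intro d hd
    have : (d : G ⧸ W) ∈ ((↑) : G → G ⧸ W) '' E := heq ▸ ⟨d, hd, rfl⟩
    exact this
  have hconj : ∀ g : G, ∀ a ∈ D, g * a * g⁻¹ ∈ D := by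
    intro g a ha
    obtain ⟨d, -, hD'⟩ := hD.2.1
    rw [hD'] at ha ⊢
    exact IsConj.trans ha (isConj_iff.2 ⟨g, rfl⟩)
  let Γ : G ⧸ W → Additive W → Prop := fun q v =>
    ∃ d ∈ D, (d : G ⧸ W) = q ∧ d * val W v ∈ E
  have hval : ∀ v : Additive W, (val W v)⁻¹ = val W v := fun v =>
    inv_eq_of_mul_eq_one_right (by rw [← pow_two]; exact hW _ (val_mem W v))
  have hbar : ∀ (d : G) (v : Additive W), ((d * val W v : G) : G ⧸ W) = (d : G ⧸ W) := fun d v => by
    rw [QuotientGroup.mk_mul, (QuotientGroup.eq_one_iff _).2 (val_mem W v), mul_one]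
  intro e he
  obtain ⟨d, hd, hde⟩ : (e : G ⧸ W) ∈ ((↑) : G → G ⧸ W) '' D := heq ▸ ⟨e, he, rfl⟩
  have hdeW : d⁻¹ * e ∈ W := (QuotientGroup.eq (s := W)).1 hde
  obtain ⟨w, hw⟩ : ∃ w : Additive W, val W w = d⁻¹ * e :=
    ⟨Additive.ofMul (⟨d⁻¹ * e, hdeW⟩ : W), rfl⟩
  have hΓ : Γ d w := ⟨d, hd, rfl, by rwa [hw, mul_inv_cancel_left]⟩
  obtain ⟨v, hv⟩ : w ∈ R (Additive W) (d : G ⧸ W) := by
    refine M.lifts_mem Γ ?_ ?_ ?_ ?_ hZQ ?_ ⟨d, hd, rfl⟩ hΓ
    · rintro _ ⟨a, ha, rfl⟩
      obtain ⟨f, hf, hfa⟩ := hlift a ha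
      exact ⟨Additive.ofMul (⟨a⁻¹ * f, (QuotientGroup.eq (s := W)).1 hfa.symm⟩ : W), a, ha, rfl,
        by show a * (a⁻¹ * f) ∈ E; rwa [mul_inv_cancel_left]⟩
    · rintro _ - w ⟨a, ha, rfl, haw⟩
      refine val_injective W ?_
      rw [val_smul]
      have h := inv_eq hE.1 haw
      rw [mul_inv_rev, hval, inv_eq hD.1 ha] at h
      rw [inv_eq hD.1 ha, ← h, mul_assoc, sq_one hD.1 ha, mul_one]
    · rintro _ ⟨a', -, rfl⟩ _ ⟨b', -, rfl⟩ hn w w2 ⟨a, ha, haq, haw⟩ ⟨b, hb, hbq, hbw⟩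
      rw [← haq, ← hbq] at hn ⊢
      have hnab : ¬ Commute a b := fun h => hn (h.map (QuotientGroup.mk' W))
      have hnef : ¬ Commute (a * val W w) (b * val W w2) := fun h => hn (by
        have := h.map (QuotientGroup.mk' W)
        simpa only [QuotientGroup.mk'_apply, hbar] using this)
      refine M.mem_of_norm_zero (val_injective W ?_)
      have hρ := pow_three hD.1 ha hb hnab
      have h3 := pow_three hE.1 haw hbw hnef
      simp only [pow_succ, pow_zero, one_mul] at hρ h3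
      rw [← QuotientGroup.mk_mul]
      simp only [val_add, val_smul, val_zero]
      obtain ⟨ρ, hρd⟩ : ∃ ρ, a * b = ρ := ⟨_, rfl⟩
      obtain ⟨y, hy⟩ : ∃ y, b * val W w * b⁻¹ * val W w2 = y := ⟨_, rfl⟩
      have hef : a * val W w * (b * val W w2) = ρ * y := by
        rw [← hρd, ← hy, inv_eq hD.1 hb]
        simp only [mul_assoc, invol_cancel (hD.1.1 b hb)]
      rw [hρd] at hρ ⊢
      rw [hy]
      rw [hef] at h3
      calc y * (ρ * y * ρ⁻¹) * (ρ * (ρ * y * ρ⁻¹) * ρ⁻¹)
          = ρ⁻¹ * (ρ * y * (ρ * y) * (ρ * y)) * ρ * (ρ * ρ * ρ)⁻¹ := by group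
        _ = 1 := by rw [h3, hρ, inv_one, mul_one, mul_one, inv_mul_cancel]
    · rintro _ ⟨a', -, rfl⟩ _ ⟨x', -, rfl⟩ hc w w3 ⟨a, ha, haq, haw⟩ ⟨x, hx, hxq, hxw⟩
      rw [← haq, ← hxq] at hc ⊢
      have hax := commute_of_quot W hW hD.1 ha hx hc
      have hef := commute_of_quot W hW hE.1 haw hxw (by rwa [hbar, hbar])
      refine val_injective W ?_
      simp only [val_add, val_smul]
      obtain ⟨p, hp⟩ : ∃ p, val W w = p := ⟨_, rfl⟩
      obtain ⟨q, hq⟩ : ∃ q, val W w3 = q := ⟨_, rfl⟩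
      have hp2 := hval w; have hq2 := hval w3
      rw [hp] at hef hp2 ⊢
      rw [hq] at hef hq2 ⊢
      have h : x * p * x⁻¹ * q = a * q * a⁻¹ * p := by
        have h1 : a * p * (x * q) = x * q * (a * p) := hef.eq
        rw [inv_eq hD.1 hx, inv_eq hD.1 ha]
        calc x * p * x * q = x * a * (a * p * (x * q)) := by
              simp only [mul_assoc, invol_cancel (hD.1.1 a ha)]
          _ = a * x * (x * q * (a * p)) := by rw [h1, hax.eq]
          _ = a * q * a * p := by simp only [mul_assoc, invol_cancel (hD.1.1 x hx)]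
      have hpq : p * q = q * p := by
        rw [← hp, ← hq]; exact congrArg Subtype.val (mul_comm' w.toMul w3.toMul)
      calc x * p * x⁻¹ * p = x * p * x⁻¹ * q * (q⁻¹ * p) := by group
        _ = a * q * a⁻¹ * p * (q * p) := by rw [h, hq2]
        _ = a * q * a⁻¹ * (p * p⁻¹) * q := by rw [← hpq, hp2]; simp only [mul_assoc]
        _ = a * q * a⁻¹ * q := by rw [mul_inv_cancel, mul_one]
    · intro c hc
      refine val_injective W ?_
      have hcc : ∀ x ∈ D, x * val W c = val W c * x := fun x hx => by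
        have := congrArg (val W) (hc _ ⟨x, hx, rfl⟩)
        rw [val_smul] at this
        exact mul_inv_eq_iff_eq_mul.1 this
      have : val W c ∈ Subgroup.center G := by
        rw [← Subgroup.centralizer_univ, ← Subgroup.coe_top, ← hD.2.2, Subgroup.centralizer_closure]
        exact Subgroup.mem_centralizer_iff.2 hcc
      rwa [hZ, Subgroup.mem_bot] at this
  change (d : G ⧸ W) • v + v = w at hv
  have h := congrArg (val W) hv
  rw [val_cm W hW hD.1 hd, hw, inv_eq hD.1 hd] at h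
  rw [← mul_left_cancel h]
  exact hconj _ d hd

end CfsgLib.Trans3.UniqueClass
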