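import Cfsg.Agent.Lib.Trans3.UniqueClass.Basic

/-! A triangle of three-transpositions on a module with quadratic lifts: the image of one vertex
meets the image of the product of the other two trivially. -/

set_option autoImplicit false

namespace CfsgLib.Trans3.UniqueClass

variable {Q : Type*} [Group Q] {V : Type*} [AddCommGroup V] [DistribMulAction Q V] {D : Set Q}

theorem commute_of_exp_three {u v : Q} (hu : u * u * u = 1) (hv : v * v * v = 1)
    (huv : u * v * (u * v) * (u * v) = 1) :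
    (u⁻¹ * v) * (u * v⁻¹) = (u * v⁻¹) * (u⁻¹ * v) := by
  have hu' : u⁻¹ = u * u := inv_eq_of_mul_eq_one_right (by rw [← mul_assoc, hu])
  have hv' : v⁻¹ = v * v := inv_eq_of_mul_eq_one_right (by rw [← mul_assoc, hv])
  have h1 : v * u * v = u⁻¹ * v⁻¹ * u⁻¹ := by
    calc v * u * v = u⁻¹ * (u * v * (u * v) * (u * v)) * (v⁻¹ * u⁻¹) := by group
      _ = u⁻¹ * v⁻¹ * u⁻¹ := by rw [huv, mul_one, mul_assoc]
  calc (u⁻¹ * v) * (u * v⁻¹) = u⁻¹ * (v * u * v) * (v⁻¹ * v⁻¹) := by group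
    _ = (u⁻¹ * u⁻¹) * v⁻¹ * u⁻¹ * (v⁻¹ * v⁻¹) := by rw [h1]; group
    _ = u * v⁻¹ * u⁻¹ * v := by
      have e1 : u⁻¹ * u⁻¹ = u := by rw [hu']; calc u * u * (u * u) = u * u * u * u := by group
                                                    _ = u := by rw [hu, one_mul]
      have e2 : v⁻¹ * v⁻¹ = v := by rw [hv']; calc v * v * (v * v) = v * v * v * v := by group
                                                    _ = v := by rw [hv, one_mul]
      rw [e1, e2]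
    _ = (u * v⁻¹) * (u⁻¹ * v) := by group

theorem commutator_central {u v : Q} (hu : u * u * u = 1) (hv : v * v * v = 1)
    (h3 : u⁻¹ * v * (u⁻¹ * v) * (u⁻¹ * v) = 1)
    (hc : (u⁻¹ * v) * (u * v⁻¹) = (u * v⁻¹) * (u⁻¹ * v)) :
    u * ((u⁻¹ * v) * (u * v⁻¹)) = (u⁻¹ * v) * (u * v⁻¹) * u := by
  have hu' : u * u = u⁻¹ := eq_inv_of_mul_eq_one_left hu
  have h4 : u⁻¹ * v * u⁻¹ = v⁻¹ * u * v⁻¹ := by
    calc u⁻¹ * v * u⁻¹ = u⁻¹ * v * (u⁻¹ * v) * (u⁻¹ * v) * (v⁻¹ * u * v⁻¹) := by group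
      _ = v⁻¹ * u * v⁻¹ := by rw [h3, one_mul]
  calc u * ((u⁻¹ * v) * (u * v⁻¹)) = u * ((u * v⁻¹) * (u⁻¹ * v)) := by rw [hc]
    _ = (u * u) * (v⁻¹ * u⁻¹ * v * u⁻¹) * u := by group
    _ = u⁻¹ * (v⁻¹ * (u⁻¹ * v * u⁻¹)) * u := by rw [hu']; group
    _ = u⁻¹ * (v⁻¹ * (v⁻¹ * u * v⁻¹)) * u := by rw [h4]
    _ = u⁻¹ * ((v⁻¹ * v⁻¹) * u * v⁻¹) * u := by group
    _ = (u⁻¹ * v) * (u * v⁻¹) * u := by
      rw [show v⁻¹ * v⁻¹ = v by
        rw [← mul_inv_rev, inv_eq_of_mul_eq_one_right (a := v * v) hv]]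
      group

/-- The relations used in the triangle lemma, in the abstract. -/
theorem relations {u v ρ σ : Q} (hρ : u⁻¹ * v = ρ) (hσ : u * v⁻¹ = σ) (hu : u * u * u = 1)
    (hv : v * v * v = 1) (huv : u * v * (u * v) * (u * v) = 1) (hρ3 : ρ * ρ * ρ = 1)
    (hσ3 : σ * σ * σ = 1) :
    Commute ρ σ ∧ Commute u (ρ * σ) ∧ Commute v (ρ * σ) ∧ ρ * σ * (ρ * σ) * (ρ * σ) = 1 ∧
      ρ * σ * v = u⁻¹ * v * u ∧ ρ * σ⁻¹ = v * σ * v⁻¹ := by
  subst hρ hσ
  have hc : Commute (u⁻¹ * v) (u * v⁻¹) := commute_of_exp_three hu hv huv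
  have hcu : Commute u ((u⁻¹ * v) * (u * v⁻¹)) := commutator_central hu hv hρ3 hc.eq
  have hcρ : Commute (u⁻¹ * v) ((u⁻¹ * v) * (u * v⁻¹)) := (Commute.refl _).mul_right hc
  refine ⟨hc, hcu, ?_, ?_, by group, ?_⟩
  · have := hcu.mul_left hcρ
    rwa [mul_inv_cancel_left] at this
  · have e := hc.mul_pow 3
    simp only [pow_succ, pow_zero, one_mul] at e
    rw [e, hρ3, hσ3, one_mul]
  · have hv' : v⁻¹ * v⁻¹ = v := by
      rw [← mul_inv_rev, inv_eq_of_mul_eq_one_right (a := v * v) hv]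
    have h1 : v * u * v = u⁻¹ * v⁻¹ * u⁻¹ := by
      calc v * u * v = u⁻¹ * (u * v * (u * v) * (u * v)) * (v⁻¹ * u⁻¹) := by group
        _ = u⁻¹ * v⁻¹ * u⁻¹ := by rw [huv, mul_one, mul_assoc]
    calc (u⁻¹ * v) * (u * v⁻¹)⁻¹ = u⁻¹ * (v * v) * u⁻¹ := by group
      _ = u⁻¹ * v⁻¹ * u⁻¹ := by rw [eq_inv_of_mul_eq_one_left hv]
      _ = v * u * v := h1.symm
      _ = v * u * (v⁻¹ * v⁻¹) := by rw [hv']
      _ = v * (u * v⁻¹) * v⁻¹ := by group

namespace Mod

/-- If `x`, `d`, `b` are pairwise non-commuting and `x` does not commute with the third point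
`d * b * d` either, then `[V,x] ∩ [V, d * b] = 0`. -/
theorem triangle (M : Mod V D) [Finite V] {x d b : Q} (hx : x ∈ D) (hd : d ∈ D) (hb : b ∈ D)
    (hxd : ¬ Commute x d) (hxb : ¬ Commute x b) (hdb : ¬ Commute d b)
    (hxt : ¬ Commute x (d * b * d)) {ξ : V} (hξx : ξ ∈ R V x) (hξ : ξ ∈ R V (d * b)) :
    ξ = 0 := by
  have ix := sq_one M.set hx
  have ib := sq_one M.set hb
  have vx := inv_eq M.set hx
  have vd := inv_eq M.set hd
  have vb := inv_eq M.set hb
  have cx : ∀ z, x * (x * z) = z := invol_cancel (M.set.1 x hx)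
  have cd : ∀ z, d * (d * z) = z := invol_cancel (M.set.1 d hd)
  have cb : ∀ z, b * (b * z) = z := invol_cancel (M.set.1 b hb)
  have hxd' : x * d * x = d * x * d := braid M.set hx hd hxd
  have hxb' : x * b * x = b * x * b := braid M.set hx hb hxb
  obtain ⟨u, hu_def⟩ : ∃ u, x * d = u := ⟨_, rfl⟩
  obtain ⟨v, hv_def⟩ : ∃ v, x * b = v := ⟨_, rfl⟩
  obtain ⟨ρ, hρ_def⟩ : ∃ ρ, d * b = ρ := ⟨_, rfl⟩
  obtain ⟨σ, hσ_def⟩ : ∃ σ, x * (d * b) * x = σ := ⟨_, rfl⟩
  have hu : u * u * u = 1 := hu_def ▸ M.cube hx hd hxd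
  have hv : v * v * v = 1 := hv_def ▸ M.cube hx hb hxb
  have hρ3 : ρ * ρ * ρ = 1 := hρ_def ▸ M.cube hd hb hdb
  have hσ3 : σ * σ * σ = 1 := by
    rw [← hσ_def]
    calc x * (d * b) * x * (x * (d * b) * x) * (x * (d * b) * x)
        = x * (d * b * (d * b) * (d * b)) * x := by simp only [mul_assoc, cx]
      _ = 1 := by rw [M.cube hd hb hdb, mul_one, ix]
  have hρuv : u⁻¹ * v = ρ := by
    rw [← hu_def, ← hv_def, ← hρ_def, mul_inv_rev, vx, vd, mul_assoc, cx]
  have hσuv : u * v⁻¹ = σ := by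
    rw [← hu_def, ← hv_def, ← hσ_def, mul_inv_rev, vx, vb]; simp only [mul_assoc]
  have hdbx : ¬ Commute (x * d * x) b := fun h => hxt (by
    have := h.map (MulAut.conj d).toMonoidHom
    rw [hxd'] at this
    simpa [vd, mul_assoc, cd, sq_one M.set hd] using this)
  have huv : u * v = (x * d * x) * b := by simp only [← hu_def, ← hv_def, mul_assoc]
  have huv3 : u * v * (u * v) * (u * v) = 1 := by
    rw [huv]; exact M.cube (M.conj' hd hx) hb hdbx
  obtain ⟨hcomm, hcu, hcv, hc3, hcv', ht⟩ := relations hρuv hσuv hu hv huv3 hρ3 hσ3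
  obtain ⟨c, hc_def⟩ : ∃ c, ρ * σ = c := ⟨_, rfl⟩
  rw [hc_def] at hcu hcv hc3 hcv'
  have hρx : x * ρ * x = σ := by rw [← hρ_def, hσ_def]
  have hxc : Commute x c := by
    refine Commute.symm ?_
    calc c * x = σ * (ρ * x) := by rw [← hc_def, hcomm.eq, mul_assoc]
      _ = x * c := by rw [← hc_def, ← hρx]; simp only [mul_assoc, cx]
  have hcρ : Commute c ρ := hc_def ▸ (Commute.refl ρ).mul_left hcomm.symm
  have hcfix : ∀ {w : Q}, Commute c w → ∀ {z : V}, c • z = z → c • w • z = w • z :=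
    fun h z hz => by rw [smul_smul, h.eq, ← smul_smul, hz]
  -- the norm of `ξ` under `c` vanishes
  obtain ⟨η, hη_def⟩ : ∃ η, ξ + c • ξ + c • c • ξ = η := ⟨_, rfl⟩
  have hcη : c • η = η := by
    have e : c • c • c • ξ = ξ := by rw [smul_smul, smul_smul, hc3, one_smul]
    rw [← hη_def, smul_add, smul_add, e]; abel
  have hξ' : ξ ∈ R V ρ := hρ_def ▸ hξ
  have hηx : η ∈ R V x := by
    have h : ∀ z ∈ R V x, c • z ∈ R V x := fun z hz =>
      smul_mem_of_conj (by rw [← hxc.eq, mul_inv_cancel_right]) hz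
    rw [← hη_def]; exact add_mem (add_mem hξx (h _ hξx)) (h _ (h _ hξx))
  have hηρ : η ∈ R V ρ := by
    have h : ∀ z ∈ R V ρ, c • z ∈ R V ρ := fun z hz =>
      smul_mem_of_conj (by rw [hcρ.eq, mul_inv_cancel_right]) hz
    rw [← hη_def]; exact add_mem (add_mem hξ' (h _ hξ')) (h _ (h _ hξ'))
  have hu' : u⁻¹ = u * u := inv_eq_of_mul_eq_one_right (by rw [← mul_assoc, hu])
  have hη0 : η = 0 := by
    -- `u` and `v` commute on the fixed points of `c`
    have hK : ∀ z : V, c • z = z → v • u • z = u • v • z := fun z hz => by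
      have e := hcfix hcv.symm hz
      rw [smul_smul, hcv', mul_smul, mul_smul] at e
      exact inv_smul_eq_iff.1 e
    have fv : c • v • η = v • η := hcfix hcv.symm hcη
    have fuv : c • u • v • η = u • v • η := hcfix hcu.symm fv
    have hp : ρ • η = u • u • v • η := by rw [← hρuv, hu', mul_smul, mul_smul]
    have hp2 : ρ • ρ • η = u • v • v • η := by
      rw [hp, ← hρuv, hu', mul_smul, mul_smul, hK _ fuv, hK _ fv]
      rw [smul_smul u u, smul_smul (u * u) u, smul_smul (u * u * u) u, hu, one_mul]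
    have hq : (u * v) • η = u • v • η := mul_smul _ _ _
    have hq2 : (u * v) • (u * v) • η = u • u • v • v • η := by rw [hq, mul_smul, hK _ fv]
    have hηu : η ∈ R V u := hu_def ▸ M.left_le_R_mul hx hd hxd hηx
    have hηv : η ∈ R V v := hv_def ▸ M.left_le_R_mul hx hb hxb hηx
    have hfix := M.four hp hp2 hq hq2 (M.norm_zero hu hηu) (M.norm_zero hv hηv)
      (M.norm_zero hρ3 hηρ)
    rw [huv] at hfix
    have hbη := (M.fixed_pair (M.conj' hd hx) hb hdbx hfix).2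
    exact M.disjoint hx hb hxb hηx (M.mem_right_of_fixed hd hb hdb (hρ_def ▸ hηρ) hbη)
  -- hence `ξ` is fixed by `t`
  obtain ⟨t, ht_def⟩ : ∃ t, ρ * σ⁻¹ = t := ⟨_, rfl⟩
  rw [ht_def] at ht
  have hσ2 : σ⁻¹ = σ * σ := inv_eq_of_mul_eq_one_right (by rw [← mul_assoc, hσ3])
  have hρ2 : ρ⁻¹ = ρ * ρ := inv_eq_of_mul_eq_one_right (by rw [← mul_assoc, hρ3])
  have htξ : t • ξ = ξ := by
    have hσξ : ξ ∈ R V σ⁻¹ := by
      rw [R_inv]
      have := smul_mem_conj (d * b) x hξ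
      rwa [M.fixed_self hx hξx, vx, hσ_def] at this
    have hc2 : c⁻¹ = c * c := inv_eq_of_mul_eq_one_right (by rw [← mul_assoc, hc3])
    refine M.four (a := ρ) (b := σ⁻¹) (p := c⁻¹) ?_ ?_ ?_ ?_
      (M.norm_zero hρ3 hξ') (M.norm_zero ?_ hσξ) ?_
    · simp only [smul_smul]
      rw [← hc_def, hcomm.eq, mul_inv_rev, hρ2, mul_assoc]
    · simp only [smul_smul]
      congr 1
      rw [← mul_inv_rev, ← hc_def]
      calc (ρ * σ * (ρ * σ))⁻¹ = (σ * σ)⁻¹ * (ρ * ρ)⁻¹ := by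
            rw [← mul_inv_rev, mul_assoc ρ σ, ← mul_assoc σ, ← hcomm.eq]; simp only [mul_assoc]
        _ = (σ * σ)⁻¹ * ρ := by rw [← hρ2, inv_inv]
        _ = ρ * (σ⁻¹ * σ⁻¹) := by
            rw [← mul_inv_rev]; exact ((hcomm.mul_right hcomm).inv_right).eq.symm
    · rw [← ht_def, mul_smul]
    · simp only [smul_smul]
      rw [← ht_def]; congr 1
      rw [mul_assoc ρ σ⁻¹, ← mul_assoc σ⁻¹ ρ, ← hcomm.inv_right.eq]; simp only [mul_assoc]
    · rw [← mul_inv_rev, ← mul_inv_rev, ← mul_assoc, hσ3, inv_one]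
    · rw [hc2]; simp only [mul_smul]
      rw [show c • c • c • c • ξ = c • ξ by rw [smul_smul c c, smul_smul (c * c) c, hc3, one_smul]]
      rw [add_assoc, add_comm (c • c • ξ), ← add_assoc, hη_def]; exact hη0
  -- fixed points of `t` are fixed by `x`
  have hfixx : ∀ z : V, t • z = z → x • z = z := by
    intro z hz
    rw [ht, mul_smul, mul_smul] at hz
    have h2 : σ • v⁻¹ • z = v⁻¹ • z := eq_inv_smul_iff.2 hz
    rw [← hσ_def, show x * (d * b) * x = (x * d * x) * (x * b * x) by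
      simp only [mul_assoc, cx]] at h2
    have hn : ¬ Commute (x * d * x) (x * b * x) := fun h => hdb (by
      have := h.map (MulAut.conj x).toMonoidHom
      simpa [vx, mul_assoc, cx, ix] using this)
    have h3 := (M.fixed_pair (M.conj' hd hx) (M.conj' hb hx) hn h2).2
    rw [smul_smul, hxb', ← hv_def, mul_inv_rev, vx, vb] at h3
    simp only [mul_assoc, cb, ix, mul_one] at h3
    calc x • z = b • (b * x) • z := by rw [smul_smul, cb]
      _ = b • b • z := by rw [← h3]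
      _ = z := by rw [smul_smul, ib, one_smul]
  have ht3 : t * t * t = 1 := by
    rw [ht]
    calc v * σ * v⁻¹ * (v * σ * v⁻¹) * (v * σ * v⁻¹) = v * (σ * σ * σ) * v⁻¹ := by group
      _ = 1 := by rw [hσ3, mul_one, mul_inv_cancel]
  have hxt' : x * t = t * t * x := by
    rw [← inv_eq_of_mul_eq_one_right (a := t) (b := t * t) (by rw [← mul_assoc, ht3]), ← ht_def,
      ← hρx, ← hρ_def]
    simp only [mul_inv_rev, inv_inv, vx, vd, vb, mul_assoc, cx]
  have hxtt : x * (t * t) = t * x := by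
    rw [← mul_assoc, hxt', mul_assoc, hxt', ← mul_assoc, ← mul_assoc,
      show t * t * t * t = t by rw [ht3, one_mul]]
  obtain ⟨w, hw⟩ := hξx
  change x • w + w = ξ at hw
  have htN : t • (w + t • w + t • t • w) = w + t • w + t • t • w := by
    have e : t • t • t • w = w := by rw [smul_smul, smul_smul, ht3, one_smul]
    rw [smul_add, smul_add, e]; abel
  have hN := hfixx _ htN
  have e1 : t • x • w = x • t • t • w := by
    rw [smul_smul, smul_smul, smul_smul, ← hxtt, mul_assoc]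
  have e2 : t • t • x • w = x • t • w := by
    rw [smul_smul, smul_smul, smul_smul, hxt', mul_assoc]
  have h1 : ξ + t • ξ + t • t • ξ = 0 := by
    rw [← hw]
    simp only [smul_add] at hN ⊢
    rw [e2, e1]
    calc _ = (x • w + x • t • w + x • t • t • w) + (w + t • w + t • t • w) := by abel
      _ = 0 := by rw [hN, M.char2]
  rwa [htξ, htξ, M.char2, zero_add] at h1

end Mod

end CfsgLib.Trans3.UniqueClass
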